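import Cfsg.Agent.Lib.ReeFourInvolutions.Rules

/-!
The unipotent part of `²F₄(q)` in the coordinates of the eight orbits of roots around the octagon.
-/

set_option autoImplicit false
set_option linter.unusedSectionVars false
set_option linter.unusedSimpArgs false
set_option maxRecDepth 20000
set_option maxHeartbeats 1000000

namespace CfsgLib.ReeFourInvolutions

open Cfsg.Lie CfsgLib.Chevalley
open CfsgLib.OutAut.F4Pair (full X)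

variable {K : Type*} [Field K] [CharP K 2] (σ : K →+* K)

/-- orbit 1 (a pair) -/
noncomputable def o1 (a : K) : GL chevF4.Idx K := X 33 (σ a) * X 24 a
/-- orbit 2 (type B₂) -/
noncomputable def o2 (t v : K) : GL chevF4.Idx K := X 34 (σ t) * X 26 t * X 36 (σ t * t + σ v) * X 42 v
/-- orbit 3 (a pair) -/
noncomputable def o3 (c : K) : GL chevF4.Idx K := X 38 (σ c) * X 43 c
/-- orbit 4 (type B₂) -/
noncomputable def o4 (t v : K) : GL chevF4.Idx K := X 29 (σ t) * X 41 t * X 44 (σ t * t + σ v) * X 47 v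
/-- orbit 5 (a pair) -/
noncomputable def o5 (e : K) : GL chevF4.Idx K := X 39 (σ e) * X 45 e
/-- orbit 6 (type B₂) -/
noncomputable def o6 (t v : K) : GL chevF4.Idx K := X 35 (σ t) * X 31 t * X 40 (σ t * t + σ v) * X 46 v
/-- orbit 7 (a pair) -/
noncomputable def o7 (y : K) : GL chevF4.Idx K := X 37 (σ y) * X 32 y
/-- orbit 8 (type B₂) -/
noncomputable def o8 (t v : K) : GL chevF4.Idx K := X 27 (σ t) * X 25 t * X 28 (σ t * t + σ v) * X 30 v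

/-- An element of `U` in orbit coordinates. -/
noncomputable def N (a t2 v2 c t4 v4 e t6 v6 y t8 v8 : K) : GL chevF4.Idx K :=
  o1 σ a * o2 σ t2 v2 * o3 σ c * o4 σ t4 v4 * o5 σ e * o6 σ t6 v6 * o7 σ y * o8 σ t8 v8

/-- The positive roots in increasing order. -/
abbrev posL : List ℕ := [24, 25, 26, 27, 28, 29, 30, 31, 32, 33, 34, 35, 36, 37, 38, 39, 40, 41, 42, 43, 44, 45, 46, 47]

/-- Coordinates in the increasing order of the roots. -/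
def co (a t2 v2 c t4 v4 e t6 v6 y t8 v8 : K) : ℕ → K := fun r =>
  [a,
    t8,
    t2,
    σ t8,
    σ v8,
    σ t4,
    (σ t8) ^ 2 * t8 + v8,
    t6,
    t6 * t8 + y,
    σ a,
    σ a * σ t8 + σ t2,
    σ a * σ v8 + σ t2 * t8 + σ t6,
    σ a * σ t4 + σ v2,
    σ a * σ t8 * σ v8 + σ a * (σ t8) ^ 2 * t8 + σ a * v8 + σ t2 * σ t8 * t8 + σ t2 * σ v8 + σ t6 * σ t8 + σ y,
    σ a * σ t4 * σ t8 + σ a * t6 + σ c + σ t2 * σ t4 + σ t8 * σ v2,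
    σ a * σ t4 * σ v8 + σ a * t6 * t8 + σ a * y + σ c * t8 + σ e + σ t2 * σ t4 * t8 + σ v2 * σ v8,
    σ a * σ t4 * σ t8 * σ v8 + σ a * σ t4 * (σ t8) ^ 2 * t8 + σ a * σ t4 * v8 + σ a * σ t8 * t6 * t8 + σ a * σ t8 * y + σ a * σ v8 * t6 + σ c * σ t8 * t8 + σ c * σ v8 + σ e * σ t8 + σ t2 * σ t4 * σ t8 * t8 + σ t2 * σ t4 * σ v8 + σ t2 * y + σ t8 * σ v2 * σ v8 + (σ t8) ^ 2 * σ v2 * t8 + σ v2 * v8 + σ v6,
    (σ a) ^ 2 * (σ t8) ^ 2 * t8 + (σ a) ^ 2 * v8 + (σ t2) ^ 2 * t8 + t4,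
    (σ a) ^ 2 * t6 + (σ t2) ^ 2 * t2 + v2,
    (σ a) ^ 2 * t6 * t8 + (σ a) ^ 2 * y + (σ t2) ^ 2 * t2 * t8 + c + t8 * v2,
    σ a * σ t2 * σ t4 * σ t8 * t8 + σ a * σ t2 * σ t4 * σ v8 + σ a * σ t2 * y + σ a * σ t4 * σ t6 * σ t8 + σ a * σ t6 * t6 + σ a * σ t8 * σ v2 * σ v8 + σ a * (σ t8) ^ 2 * σ v2 * t8 + σ a * σ v2 * v8 + (σ a) ^ 2 * σ t4 * σ t8 * σ v8 + (σ a) ^ 2 * σ t4 * (σ t8) ^ 2 * t8 + (σ a) ^ 2 * σ t4 * v8 + (σ a) ^ 2 * σ t8 * t6 * t8 + (σ a) ^ 2 * σ t8 * y + (σ a) ^ 2 * σ v8 * t6 + σ c * σ t6 + σ t2 * σ t4 * σ t6 + σ t2 * σ t8 * σ v2 * t8 + σ t2 * σ v2 * σ v8 + (σ t2) ^ 2 * σ t8 * t2 * t8 + (σ t2) ^ 2 * σ v8 * t2 + σ t4 * t4 + σ t6 * σ t8 * σ v2 + σ t8 * c + σ t8 * t8 * v2 + σ v4 + σ v8 * v2,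
    (σ a) ^ 2 * (σ t8) ^ 2 * y + (σ a) ^ 2 * t6 * v8 + (σ t2) ^ 2 * t2 * v8 + (σ t2) ^ 2 * y + (σ t8) ^ 2 * c + e + t4 * t6 + v2 * v8,
    (σ a) ^ 2 * (σ t8) ^ 2 * t6 * t8 ^ 2 + (σ a) ^ 2 * (σ t8) ^ 2 * t8 * y + (σ a) ^ 2 * (σ v8) ^ 2 * t6 + (σ a) ^ 2 * t6 * t8 * v8 + (σ a) ^ 2 * v8 * y + (σ t2) ^ 2 * (σ t8) ^ 2 * t2 * t8 ^ 2 + (σ t2) ^ 2 * (σ v8) ^ 2 * t2 + (σ t2) ^ 2 * t2 * t8 * v8 + (σ t2) ^ 2 * t8 * y + (σ t6) ^ 2 * t6 + (σ t8) ^ 2 * c * t8 + (σ t8) ^ 2 * t8 ^ 2 * v2 + (σ v8) ^ 2 * v2 + c * v8 + e * t8 + t4 * t6 * t8 + t4 * y + t8 * v2 * v8 + v6,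
    (σ a) ^ 2 * (σ t4) ^ 2 * (σ t8) ^ 2 * t8 + (σ a) ^ 2 * (σ t4) ^ 2 * v8 + (σ a) ^ 2 * t6 * y + (σ a) ^ 2 * t6 ^ 2 * t8 + (σ c) ^ 2 * t8 + (σ t2) ^ 2 * (σ t4) ^ 2 * t8 + (σ t2) ^ 2 * t2 * y + (σ t8) ^ 2 * (σ v2) ^ 2 * t8 + (σ v2) ^ 2 * v8 + c * t6 + v2 * y + v4].getD (r - 24) 0

theorem list_congr {x24 x25 x26 x27 x28 x29 x30 x31 x32 x33 x34 x35 x36 x37 x38 x39 x40 x41 x42 x43 x44 x45 x46 x47 y24 y25 y26 y27 y28 y29 y30 y31 y32 y33 y34 y35 y36 y37 y38 y39 y40 y41 y42 y43 y44 y45 y46 y47 : K}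
    (h24 : x24 = y24) (h25 : x25 = y25) (h26 : x26 = y26) (h27 : x27 = y27) (h28 : x28 = y28) (h29 : x29 = y29) (h30 : x30 = y30) (h31 : x31 = y31) (h32 : x32 = y32) (h33 : x33 = y33) (h34 : x34 = y34) (h35 : x35 = y35) (h36 : x36 = y36) (h37 : x37 = y37) (h38 : x38 = y38) (h39 : x39 = y39) (h40 : x40 = y40) (h41 : x41 = y41) (h42 : x42 = y42) (h43 : x43 = y43) (h44 : x44 = y44) (h45 : x45 = y45) (h46 : x46 = y46) (h47 : x47 = y47) :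
    (X 24 x24 * (X 25 x25 * (X 26 x26 * (X 27 x27 * (X 28 x28 * (X 29 x29 * (X 30 x30 * (X 31 x31 * (X 32 x32 * (X 33 x33 * (X 34 x34 * (X 35 x35 * (X 36 x36 * (X 37 x37 * (X 38 x38 * (X 39 x39 * (X 40 x40 * (X 41 x41 * (X 42 x42 * (X 43 x43 * (X 44 x44 * (X 45 x45 * (X 46 x46 * (X 47 x47 * 1))))))))))))))))))))))) : GL chevF4.Idx K) =
      X 24 y24 * (X 25 y25 * (X 26 y26 * (X 27 y27 * (X 28 y28 * (X 29 y29 * (X 30 y30 * (X 31 y31 * (X 32 y32 * (X 33 y33 * (X 34 y34 * (X 35 y35 * (X 36 y36 * (X 37 y37 * (X 38 y38 * (X 39 y39 * (X 40 y40 * (X 41 y41 * (X 42 y42 * (X 43 y43 * (X 44 y44 * (X 45 y45 * (X 46 y46 * (X 47 y47 * 1))))))))))))))))))))))) := by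
  subst_vars; rfl

theorem prodU_posL (t : ℕ → K) :
    prodU full.cert posL t = X 24 (t 24) * (X 25 (t 25) * (X 26 (t 26) * (X 27 (t 27) * (X 28 (t 28) * (X 29 (t 29) * (X 30 (t 30) * (X 31 (t 31) * (X 32 (t 32) * (X 33 (t 33) * (X 34 (t 34) * (X 35 (t 35) * (X 36 (t 36) * (X 37 (t 37) * (X 38 (t 38) * (X 39 (t 39) * (X 40 (t 40) * (X 41 (t 41) * (X 42 (t 42) * (X 43 (t 43) * (X 44 (t 44) * (X 45 (t 45) * (X 46 (t 46) * (X 47 (t 47) * 1))))))))))))))))))))))) := rfl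

theorem N_eq_prodU (a t2 v2 c t4 v4 e t6 v6 y t8 v8 : K) : N σ a t2 v2 c t4 v4 e t6 v6 y t8 v8 = prodU full.cert posL (co σ a t2 v2 c t4 v4 e t6 v6 y t8 v8) := by
  rw [prodU_posL]
  simp only [co, Nat.reduceSub, List.getD_cons_zero, List.getD_cons_succ]
  rw [← mul_one (N σ a t2 v2 c t4 v4 e t6 v6 y t8 v8)]
  simp only [N, o1, o2, o3, o4, o5, o6, o7, o8]
  f4_norm
  refine list_congr ?_ ?_ ?_ ?_ ?_ ?_ ?_ ?_ ?_ ?_ ?_ ?_ ?_ ?_ ?_ ?_ ?_ ?_ ?_ ?_ ?_ ?_ ?_ ?_ <;> grind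

end CfsgLib.ReeFourInvolutions
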