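import Cfsg.Agent.Lib.ReeFourInvolutions.Coord

/-!
Uniqueness of the coordinates in `U`.
-/

set_option autoImplicit false
set_option linter.unusedSectionVars false
set_option linter.unusedSimpArgs false
set_option maxRecDepth 20000

namespace CfsgLib.ReeFourInvolutions

open Cfsg.Lie CfsgLib.Chevalley
open CfsgLib.OutAut.F4Pair (full X)

variable {K : Type*} [Field K] [CharP K 2] (σ : K →+* K)

theorem set_pos : {r | chevF4.IsPosRoot r} = {r | r ∈ posL} := by
  ext r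
  simp only [Set.mem_ofPred_eq, CfsgLib.OutAut.F4Pair.isPos_iff, posL, List.mem_cons, List.not_mem_nil, or_false]
  omega

theorem prodU_inj {t t' : ℕ → K} (h : prodU full.cert posL t = prodU full.cert posL t') :
    ∀ r ∈ posL, t r = t' r :=
  prodU_injOn full.toStd (by decide) (set_pos ▸ full.toStd.isClosed_pos) h

theorem list_inj {x24 x25 x26 x27 x28 x29 x30 x31 x32 x33 x34 x35 x36 x37 x38 x39 x40 x41 x42 x43 x44 x45 x46 x47 y24 y25 y26 y27 y28 y29 y30 y31 y32 y33 y34 y35 y36 y37 y38 y39 y40 y41 y42 y43 y44 y45 y46 y47 : K}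
    (h : (X 24 x24 * (X 25 x25 * (X 26 x26 * (X 27 x27 * (X 28 x28 * (X 29 x29 * (X 30 x30 * (X 31 x31 * (X 32 x32 * (X 33 x33 * (X 34 x34 * (X 35 x35 * (X 36 x36 * (X 37 x37 * (X 38 x38 * (X 39 x39 * (X 40 x40 * (X 41 x41 * (X 42 x42 * (X 43 x43 * (X 44 x44 * (X 45 x45 * (X 46 x46 * (X 47 x47 * 1))))))))))))))))))))))) : GL chevF4.Idx K) =
      X 24 y24 * (X 25 y25 * (X 26 y26 * (X 27 y27 * (X 28 y28 * (X 29 y29 * (X 30 y30 * (X 31 y31 * (X 32 y32 * (X 33 y33 * (X 34 y34 * (X 35 y35 * (X 36 y36 * (X 37 y37 * (X 38 y38 * (X 39 y39 * (X 40 y40 * (X 41 y41 * (X 42 y42 * (X 43 y43 * (X 44 y44 * (X 45 y45 * (X 46 y46 * (X 47 y47 * 1)))))))))))))))))))))))) :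
    x24 = y24 ∧ x25 = y25 ∧ x26 = y26 ∧ x27 = y27 ∧ x28 = y28 ∧ x29 = y29 ∧ x30 = y30 ∧ x31 = y31 ∧ x32 = y32 ∧ x33 = y33 ∧ x34 = y34 ∧ x35 = y35 ∧ x36 = y36 ∧ x37 = y37 ∧ x38 = y38 ∧ x39 = y39 ∧ x40 = y40 ∧ x41 = y41 ∧ x42 = y42 ∧ x43 = y43 ∧ x44 = y44 ∧ x45 = y45 ∧ x46 = y46 ∧ x47 = y47 := by
  have k := prodU_inj (t := fun r => [x24, x25, x26, x27, x28, x29, x30, x31, x32, x33, x34, x35, x36, x37, x38, x39, x40, x41, x42, x43, x44, x45, x46, x47].getD (r - 24) 0)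
    (t' := fun r => [y24, y25, y26, y27, y28, y29, y30, y31, y32, y33, y34, y35, y36, y37, y38, y39, y40, y41, y42, y43, y44, y45, y46, y47].getD (r - 24) 0) h
  exact ⟨k 24 (by decide), k 25 (by decide), k 26 (by decide), k 27 (by decide), k 28 (by decide), k 29 (by decide), k 30 (by decide), k 31 (by decide), k 32 (by decide), k 33 (by decide), k 34 (by decide), k 35 (by decide), k 36 (by decide), k 37 (by decide), k 38 (by decide), k 39 (by decide), k 40 (by decide), k 41 (by decide), k 42 (by decide), k 43 (by decide), k 44 (by decide), k 45 (by decide), k 46 (by decide), k 47 (by decide)⟩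

/-- All roots with coefficient zero; appended so that normal forms mention every root. -/
noncomputable def padding : GL chevF4.Idx K :=
  X 24 (0 : K) * (X 25 (0 : K) * (X 26 (0 : K) * (X 27 (0 : K) * (X 28 (0 : K) * (X 29 (0 : K) * (X 30 (0 : K) * (X 31 (0 : K) * (X 32 (0 : K) * (X 33 (0 : K) * (X 34 (0 : K) * (X 35 (0 : K) * (X 36 (0 : K) * (X 37 (0 : K) * (X 38 (0 : K) * (X 39 (0 : K) * (X 40 (0 : K) * (X 41 (0 : K) * (X 42 (0 : K) * (X 43 (0 : K) * (X 44 (0 : K) * (X 45 (0 : K) * (X 46 (0 : K) * (X 47 (0 : K) * 1)))))))))))))))))))))))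

theorem padding_eq : (padding : GL chevF4.Idx K) = 1 := by
  simp [padding, xG_zero]

theorem mul_padding {g g' : GL chevF4.Idx K} (h : g = g') : g * padding = g' * padding := by rw [h]

end CfsgLib.ReeFourInvolutions
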