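import Mathlib
import Cfsg.Agent.Lib.OutAut.F4PairInv
import Cfsg.Agent.Lib.Chevalley.SL2

/-!
Root elements of `F₄` in characteristic two: rules bringing products in `U` to the increasing order of the roots
(generated from the commutator table).
-/

set_option autoImplicit false
set_option linter.unusedSectionVars false
set_option linter.unusedSimpArgs false
set_option maxRecDepth 20000

namespace CfsgLib.ReeFourInvolutions

open Cfsg.Lie CfsgLib.Chevalley
open CfsgLib.OutAut.F4Pair (full X)

variable {K : Type*} [Field K] [CharP K 2]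

theorem merge (k : ℕ) (t u : K) (R : GL chevF4.Idx K) : X k t * (X k u * R) = X k (t + u) * R := by
  rw [← mul_assoc, xG_mul]

theorem swap {r s : ℕ} (hr : r < chevF4.nroots) (hs : s < chevF4.nroots) (hne : s ≠ r)
    (hneg : s ≠ chevF4.neg r) (t u : K) (R : GL chevF4.Idx K) :
    X s u * (X r t * R) = X r t * (X s u *
      (((chevF4.commTerms r s).map fun c => X c.1 ((c.2.1 : K) * t ^ c.2.2.1 * u ^ c.2.2.2)).prod * R)) := by
  have h := x_mul_x full.mem hr hs hne hneg t u
  rw [wordMat_eq_prod full.cert] at h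
  simp only [ChevalleyDatum.commWord, List.map_map, Function.comp_def, CharTwo.neg_eq] at h
  have h' : X s u * X r t = X r t * X s u *
      ((chevF4.commTerms r s).map fun c => X c.1 ((c.2.1 : K) * t ^ c.2.2.1 * u ^ c.2.2.2)).prod :=
    Units.ext (by simpa using h)
  rw [← mul_assoc, h', mul_assoc, mul_assoc]

variable (t u : K) (R : GL chevF4.Idx K)

theorem r25_24 : X 25 u * (X 24 t * R) = X 24 t * (X 25 u * (X 26 (t * u) * R)) := by
  rw [swap (r := 24) (s := 25) (by decide) (by decide) (by decide) (by decide),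
    show chevF4.commTerms 24 25 = [(26, 1, 1, 1)] from rfl]
  simp [CharTwo.neg_eq, CharTwo.two_eq_zero, mul_assoc, xG_zero]

theorem r26_24 : X 26 u * (X 24 t * R) = X 24 t * (X 26 u * R) := by
  rw [swap (r := 24) (s := 26) (by decide) (by decide) (by decide) (by decide),
    show chevF4.commTerms 24 26 = [] from rfl]
  simp [CharTwo.neg_eq, CharTwo.two_eq_zero, mul_assoc, xG_zero]

theorem r27_24 : X 27 u * (X 24 t * R) = X 24 t * (X 27 u * R) := by
  rw [swap (r := 24) (s := 27) (by decide) (by decide) (by decide) (by decide),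
    show chevF4.commTerms 24 27 = [] from rfl]
  simp [CharTwo.neg_eq, CharTwo.two_eq_zero, mul_assoc, xG_zero]

theorem r28_24 : X 28 u * (X 24 t * R) = X 24 t * (X 28 u * (X 29 (t * u) * (X 32 (t * u ^ 2) * R))) := by
  rw [swap (r := 24) (s := 28) (by decide) (by decide) (by decide) (by decide),
    show chevF4.commTerms 24 28 = [(29, 1, 1, 1), (32, -1, 1, 2)] from rfl]
  simp [CharTwo.neg_eq, CharTwo.two_eq_zero, mul_assoc, xG_zero]

theorem r29_24 : X 29 u * (X 24 t * R) = X 24 t * (X 29 u * R) := by
  rw [swap (r := 24) (s := 29) (by decide) (by decide) (by decide) (by decide),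
    show chevF4.commTerms 24 29 = [] from rfl]
  simp [CharTwo.neg_eq, CharTwo.two_eq_zero, mul_assoc, xG_zero]

theorem r30_24 : X 30 u * (X 24 t * R) = X 24 t * (X 30 u * (X 31 (t * u) * R)) := by
  rw [swap (r := 24) (s := 30) (by decide) (by decide) (by decide) (by decide),
    show chevF4.commTerms 24 30 = [(31, 1, 1, 1)] from rfl]
  simp [CharTwo.neg_eq, CharTwo.two_eq_zero, mul_assoc, xG_zero]

theorem r31_24 : X 31 u * (X 24 t * R) = X 24 t * (X 31 u * R) := by
  rw [swap (r := 24) (s := 31) (by decide) (by decide) (by decide) (by decide),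
    show chevF4.commTerms 24 31 = [] from rfl]
  simp [CharTwo.neg_eq, CharTwo.two_eq_zero, mul_assoc, xG_zero]

theorem r32_24 : X 32 u * (X 24 t * R) = X 24 t * (X 32 u * R) := by
  rw [swap (r := 24) (s := 32) (by decide) (by decide) (by decide) (by decide),
    show chevF4.commTerms 24 32 = [] from rfl]
  simp [CharTwo.neg_eq, CharTwo.two_eq_zero, mul_assoc, xG_zero]

theorem r33_24 : X 33 u * (X 24 t * R) = X 24 t * (X 33 u * R) := by
  rw [swap (r := 24) (s := 33) (by decide) (by decide) (by decide) (by decide),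
    show chevF4.commTerms 24 33 = [] from rfl]
  simp [CharTwo.neg_eq, CharTwo.two_eq_zero, mul_assoc, xG_zero]

theorem r34_24 : X 34 u * (X 24 t * R) = X 24 t * (X 34 u * R) := by
  rw [swap (r := 24) (s := 34) (by decide) (by decide) (by decide) (by decide),
    show chevF4.commTerms 24 34 = [] from rfl]
  simp [CharTwo.neg_eq, CharTwo.two_eq_zero, mul_assoc, xG_zero]

theorem r35_24 : X 35 u * (X 24 t * R) = X 24 t * (X 35 u * (X 36 (t * u) * (X 43 (t * u ^ 2) * R))) := by
  rw [swap (r := 24) (s := 35) (by decide) (by decide) (by decide) (by decide),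
    show chevF4.commTerms 24 35 = [(36, 1, 1, 1), (43, 1, 1, 2)] from rfl]
  simp [CharTwo.neg_eq, CharTwo.two_eq_zero, mul_assoc, xG_zero]

theorem r36_24 : X 36 u * (X 24 t * R) = X 24 t * (X 36 u * R) := by
  rw [swap (r := 24) (s := 36) (by decide) (by decide) (by decide) (by decide),
    show chevF4.commTerms 24 36 = [] from rfl]
  simp [CharTwo.neg_eq, CharTwo.two_eq_zero, mul_assoc, xG_zero]

theorem r37_24 : X 37 u * (X 24 t * R) = X 24 t * (X 37 u * (X 38 (t * u) * (X 45 (t * u ^ 2) * R))) := by
  rw [swap (r := 24) (s := 37) (by decide) (by decide) (by decide) (by decide),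
    show chevF4.commTerms 24 37 = [(38, 1, 1, 1), (45, 1, 1, 2)] from rfl]
  simp [CharTwo.neg_eq, CharTwo.two_eq_zero, mul_assoc, xG_zero]

theorem r38_24 : X 38 u * (X 24 t * R) = X 24 t * (X 38 u * R) := by
  rw [swap (r := 24) (s := 38) (by decide) (by decide) (by decide) (by decide),
    show chevF4.commTerms 24 38 = [] from rfl]
  simp [CharTwo.neg_eq, CharTwo.two_eq_zero, mul_assoc, xG_zero]

theorem r39_24 : X 39 u * (X 24 t * R) = X 24 t * (X 39 u * R) := by
  rw [swap (r := 24) (s := 39) (by decide) (by decide) (by decide) (by decide),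
    show chevF4.commTerms 24 39 = [] from rfl]
  simp [CharTwo.neg_eq, CharTwo.two_eq_zero, mul_assoc, xG_zero]

theorem r40_24 : X 40 u * (X 24 t * R) = X 24 t * (X 40 u * R) := by
  rw [swap (r := 24) (s := 40) (by decide) (by decide) (by decide) (by decide),
    show chevF4.commTerms 24 40 = [] from rfl]
  simp [CharTwo.neg_eq, CharTwo.two_eq_zero, mul_assoc, xG_zero]

theorem r41_24 : X 41 u * (X 24 t * R) = X 24 t * (X 41 u * (X 42 (t * u) * R)) := by
  rw [swap (r := 24) (s := 41) (by decide) (by decide) (by decide) (by decide),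
    show chevF4.commTerms 24 41 = [(42, 1, 1, 1)] from rfl]
  simp [CharTwo.neg_eq, CharTwo.two_eq_zero, mul_assoc, xG_zero]

theorem r42_24 : X 42 u * (X 24 t * R) = X 24 t * (X 42 u * R) := by
  rw [swap (r := 24) (s := 42) (by decide) (by decide) (by decide) (by decide),
    show chevF4.commTerms 24 42 = [] from rfl]
  simp [CharTwo.neg_eq, CharTwo.two_eq_zero, mul_assoc, xG_zero]

theorem r43_24 : X 43 u * (X 24 t * R) = X 24 t * (X 43 u * R) := by
  rw [swap (r := 24) (s := 43) (by decide) (by decide) (by decide) (by decide),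
    show chevF4.commTerms 24 43 = [] from rfl]
  simp [CharTwo.neg_eq, CharTwo.two_eq_zero, mul_assoc, xG_zero]

theorem r44_24 : X 44 u * (X 24 t * R) = X 24 t * (X 44 u * R) := by
  rw [swap (r := 24) (s := 44) (by decide) (by decide) (by decide) (by decide),
    show chevF4.commTerms 24 44 = [] from rfl]
  simp [CharTwo.neg_eq, CharTwo.two_eq_zero, mul_assoc, xG_zero]

theorem r45_24 : X 45 u * (X 24 t * R) = X 24 t * (X 45 u * R) := by
  rw [swap (r := 24) (s := 45) (by decide) (by decide) (by decide) (by decide),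
    show chevF4.commTerms 24 45 = [] from rfl]
  simp [CharTwo.neg_eq, CharTwo.two_eq_zero, mul_assoc, xG_zero]

theorem r46_24 : X 46 u * (X 24 t * R) = X 24 t * (X 46 u * (X 47 (t * u) * R)) := by
  rw [swap (r := 24) (s := 46) (by decide) (by decide) (by decide) (by decide),
    show chevF4.commTerms 24 46 = [(47, 1, 1, 1)] from rfl]
  simp [CharTwo.neg_eq, CharTwo.two_eq_zero, mul_assoc, xG_zero]

theorem r47_24 : X 47 u * (X 24 t * R) = X 24 t * (X 47 u * R) := by
  rw [swap (r := 24) (s := 47) (by decide) (by decide) (by decide) (by decide),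
    show chevF4.commTerms 24 47 = [] from rfl]
  simp [CharTwo.neg_eq, CharTwo.two_eq_zero, mul_assoc, xG_zero]

theorem r26_25 : X 26 u * (X 25 t * R) = X 25 t * (X 26 u * R) := by
  rw [swap (r := 25) (s := 26) (by decide) (by decide) (by decide) (by decide),
    show chevF4.commTerms 25 26 = [] from rfl]
  simp [CharTwo.neg_eq, CharTwo.two_eq_zero, mul_assoc, xG_zero]

theorem r27_25 : X 27 u * (X 25 t * R) = X 25 t * (X 27 u * (X 28 (t * u) * (X 30 (t * u ^ 2) * R))) := by
  rw [swap (r := 25) (s := 27) (by decide) (by decide) (by decide) (by decide),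
    show chevF4.commTerms 25 27 = [(28, 1, 1, 1), (30, -1, 1, 2)] from rfl]
  simp [CharTwo.neg_eq, CharTwo.two_eq_zero, mul_assoc, xG_zero]

theorem r28_25 : X 28 u * (X 25 t * R) = X 25 t * (X 28 u * R) := by
  rw [swap (r := 25) (s := 28) (by decide) (by decide) (by decide) (by decide),
    show chevF4.commTerms 25 28 = [] from rfl]
  simp [CharTwo.neg_eq, CharTwo.two_eq_zero, mul_assoc, xG_zero]

theorem r29_25 : X 29 u * (X 25 t * R) = X 25 t * (X 29 u * R) := by
  rw [swap (r := 25) (s := 29) (by decide) (by decide) (by decide) (by decide),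
    show chevF4.commTerms 25 29 = [] from rfl]
  simp [CharTwo.neg_eq, CharTwo.two_eq_zero, mul_assoc, xG_zero]

theorem r30_25 : X 30 u * (X 25 t * R) = X 25 t * (X 30 u * R) := by
  rw [swap (r := 25) (s := 30) (by decide) (by decide) (by decide) (by decide),
    show chevF4.commTerms 25 30 = [] from rfl]
  simp [CharTwo.neg_eq, CharTwo.two_eq_zero, mul_assoc, xG_zero]

theorem r31_25 : X 31 u * (X 25 t * R) = X 25 t * (X 31 u * (X 32 (t * u) * R)) := by
  rw [swap (r := 25) (s := 31) (by decide) (by decide) (by decide) (by decide),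
    show chevF4.commTerms 25 31 = [(32, 1, 1, 1)] from rfl]
  simp [CharTwo.neg_eq, CharTwo.two_eq_zero, mul_assoc, xG_zero]

theorem r32_25 : X 32 u * (X 25 t * R) = X 25 t * (X 32 u * R) := by
  rw [swap (r := 25) (s := 32) (by decide) (by decide) (by decide) (by decide),
    show chevF4.commTerms 25 32 = [] from rfl]
  simp [CharTwo.neg_eq, CharTwo.two_eq_zero, mul_assoc, xG_zero]

theorem r33_25 : X 33 u * (X 25 t * R) = X 25 t * (X 33 u * R) := by
  rw [swap (r := 25) (s := 33) (by decide) (by decide) (by decide) (by decide),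
    show chevF4.commTerms 25 33 = [] from rfl]
  simp [CharTwo.neg_eq, CharTwo.two_eq_zero, mul_assoc, xG_zero]

theorem r34_25 : X 34 u * (X 25 t * R) = X 25 t * (X 34 u * (X 35 (t * u) * (X 41 (t * u ^ 2) * R))) := by
  rw [swap (r := 25) (s := 34) (by decide) (by decide) (by decide) (by decide),
    show chevF4.commTerms 25 34 = [(35, 1, 1, 1), (41, 1, 1, 2)] from rfl]
  simp [CharTwo.neg_eq, CharTwo.two_eq_zero, mul_assoc, xG_zero]

theorem r35_25 : X 35 u * (X 25 t * R) = X 25 t * (X 35 u * R) := by
  rw [swap (r := 25) (s := 35) (by decide) (by decide) (by decide) (by decide),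
    show chevF4.commTerms 25 35 = [] from rfl]
  simp [CharTwo.neg_eq, CharTwo.two_eq_zero, mul_assoc, xG_zero]

theorem r36_25 : X 36 u * (X 25 t * R) = X 25 t * (X 36 u * R) := by
  rw [swap (r := 25) (s := 36) (by decide) (by decide) (by decide) (by decide),
    show chevF4.commTerms 25 36 = [] from rfl]
  simp [CharTwo.neg_eq, CharTwo.two_eq_zero, mul_assoc, xG_zero]

theorem r37_25 : X 37 u * (X 25 t * R) = X 25 t * (X 37 u * R) := by
  rw [swap (r := 25) (s := 37) (by decide) (by decide) (by decide) (by decide),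
    show chevF4.commTerms 25 37 = [] from rfl]
  simp [CharTwo.neg_eq, CharTwo.two_eq_zero, mul_assoc, xG_zero]

theorem r38_25 : X 38 u * (X 25 t * R) = X 25 t * (X 38 u * (X 39 (t * u) * (X 47 (t * u ^ 2) * R))) := by
  rw [swap (r := 25) (s := 38) (by decide) (by decide) (by decide) (by decide),
    show chevF4.commTerms 25 38 = [(39, 1, 1, 1), (47, 1, 1, 2)] from rfl]
  simp [CharTwo.neg_eq, CharTwo.two_eq_zero, mul_assoc, xG_zero]

theorem r39_25 : X 39 u * (X 25 t * R) = X 25 t * (X 39 u * R) := by
  rw [swap (r := 25) (s := 39) (by decide) (by decide) (by decide) (by decide),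
    show chevF4.commTerms 25 39 = [] from rfl]
  simp [CharTwo.neg_eq, CharTwo.two_eq_zero, mul_assoc, xG_zero]

theorem r40_25 : X 40 u * (X 25 t * R) = X 25 t * (X 40 u * R) := by
  rw [swap (r := 25) (s := 40) (by decide) (by decide) (by decide) (by decide),
    show chevF4.commTerms 25 40 = [] from rfl]
  simp [CharTwo.neg_eq, CharTwo.two_eq_zero, mul_assoc, xG_zero]

theorem r41_25 : X 41 u * (X 25 t * R) = X 25 t * (X 41 u * R) := by
  rw [swap (r := 25) (s := 41) (by decide) (by decide) (by decide) (by decide),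
    show chevF4.commTerms 25 41 = [] from rfl]
  simp [CharTwo.neg_eq, CharTwo.two_eq_zero, mul_assoc, xG_zero]

theorem r42_25 : X 42 u * (X 25 t * R) = X 25 t * (X 42 u * (X 43 (t * u) * R)) := by
  rw [swap (r := 25) (s := 42) (by decide) (by decide) (by decide) (by decide),
    show chevF4.commTerms 25 42 = [(43, 1, 1, 1)] from rfl]
  simp [CharTwo.neg_eq, CharTwo.two_eq_zero, mul_assoc, xG_zero]

theorem r43_25 : X 43 u * (X 25 t * R) = X 25 t * (X 43 u * R) := by
  rw [swap (r := 25) (s := 43) (by decide) (by decide) (by decide) (by decide),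
    show chevF4.commTerms 25 43 = [] from rfl]
  simp [CharTwo.neg_eq, CharTwo.two_eq_zero, mul_assoc, xG_zero]

theorem r44_25 : X 44 u * (X 25 t * R) = X 25 t * (X 44 u * R) := by
  rw [swap (r := 25) (s := 44) (by decide) (by decide) (by decide) (by decide),
    show chevF4.commTerms 25 44 = [] from rfl]
  simp [CharTwo.neg_eq, CharTwo.two_eq_zero, mul_assoc, xG_zero]

theorem r45_25 : X 45 u * (X 25 t * R) = X 25 t * (X 45 u * (X 46 (t * u) * R)) := by
  rw [swap (r := 25) (s := 45) (by decide) (by decide) (by decide) (by decide),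
    show chevF4.commTerms 25 45 = [(46, 1, 1, 1)] from rfl]
  simp [CharTwo.neg_eq, CharTwo.two_eq_zero, mul_assoc, xG_zero]

theorem r46_25 : X 46 u * (X 25 t * R) = X 25 t * (X 46 u * R) := by
  rw [swap (r := 25) (s := 46) (by decide) (by decide) (by decide) (by decide),
    show chevF4.commTerms 25 46 = [] from rfl]
  simp [CharTwo.neg_eq, CharTwo.two_eq_zero, mul_assoc, xG_zero]

theorem r47_25 : X 47 u * (X 25 t * R) = X 25 t * (X 47 u * R) := by
  rw [swap (r := 25) (s := 47) (by decide) (by decide) (by decide) (by decide),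
    show chevF4.commTerms 25 47 = [] from rfl]
  simp [CharTwo.neg_eq, CharTwo.two_eq_zero, mul_assoc, xG_zero]

theorem r27_26 : X 27 u * (X 26 t * R) = X 26 t * (X 27 u * (X 29 (t * u) * (X 31 (t * u ^ 2) * R))) := by
  rw [swap (r := 26) (s := 27) (by decide) (by decide) (by decide) (by decide),
    show chevF4.commTerms 26 27 = [(29, 1, 1, 1), (31, -1, 1, 2)] from rfl]
  simp [CharTwo.neg_eq, CharTwo.two_eq_zero, mul_assoc, xG_zero]

theorem r28_26 : X 28 u * (X 26 t * R) = X 26 t * (X 28 u * R) := by
  rw [swap (r := 26) (s := 28) (by decide) (by decide) (by decide) (by decide),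
    show chevF4.commTerms 26 28 = [] from rfl]
  simp [CharTwo.neg_eq, CharTwo.two_eq_zero, mul_assoc, xG_zero]

theorem r29_26 : X 29 u * (X 26 t * R) = X 26 t * (X 29 u * R) := by
  rw [swap (r := 26) (s := 29) (by decide) (by decide) (by decide) (by decide),
    show chevF4.commTerms 26 29 = [] from rfl]
  simp [CharTwo.neg_eq, CharTwo.two_eq_zero, mul_assoc, xG_zero]

theorem r30_26 : X 30 u * (X 26 t * R) = X 26 t * (X 30 u * (X 32 (t * u) * R)) := by
  rw [swap (r := 26) (s := 30) (by decide) (by decide) (by decide) (by decide),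
    show chevF4.commTerms 26 30 = [(32, -1, 1, 1)] from rfl]
  simp [CharTwo.neg_eq, CharTwo.two_eq_zero, mul_assoc, xG_zero]

theorem r31_26 : X 31 u * (X 26 t * R) = X 26 t * (X 31 u * R) := by
  rw [swap (r := 26) (s := 31) (by decide) (by decide) (by decide) (by decide),
    show chevF4.commTerms 26 31 = [] from rfl]
  simp [CharTwo.neg_eq, CharTwo.two_eq_zero, mul_assoc, xG_zero]

theorem r32_26 : X 32 u * (X 26 t * R) = X 26 t * (X 32 u * R) := by
  rw [swap (r := 26) (s := 32) (by decide) (by decide) (by decide) (by decide),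
    show chevF4.commTerms 26 32 = [] from rfl]
  simp [CharTwo.neg_eq, CharTwo.two_eq_zero, mul_assoc, xG_zero]

theorem r33_26 : X 33 u * (X 26 t * R) = X 26 t * (X 33 u * R) := by
  rw [swap (r := 26) (s := 33) (by decide) (by decide) (by decide) (by decide),
    show chevF4.commTerms 26 33 = [] from rfl]
  simp [CharTwo.neg_eq, CharTwo.two_eq_zero, mul_assoc, xG_zero]

theorem r34_26 : X 34 u * (X 26 t * R) = X 26 t * (X 34 u * (X 36 (t * u) * (X 42 (t * u ^ 2) * R))) := by
  rw [swap (r := 26) (s := 34) (by decide) (by decide) (by decide) (by decide),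
    show chevF4.commTerms 26 34 = [(36, 1, 1, 1), (42, 1, 1, 2)] from rfl]
  simp [CharTwo.neg_eq, CharTwo.two_eq_zero, mul_assoc, xG_zero]

theorem r35_26 : X 35 u * (X 26 t * R) = X 26 t * (X 35 u * R) := by
  rw [swap (r := 26) (s := 35) (by decide) (by decide) (by decide) (by decide),
    show chevF4.commTerms 26 35 = [] from rfl]
  simp [CharTwo.neg_eq, CharTwo.two_eq_zero, mul_assoc, xG_zero]

theorem r36_26 : X 36 u * (X 26 t * R) = X 26 t * (X 36 u * R) := by
  rw [swap (r := 26) (s := 36) (by decide) (by decide) (by decide) (by decide),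
    show chevF4.commTerms 26 36 = [] from rfl]
  simp [CharTwo.neg_eq, CharTwo.two_eq_zero, mul_assoc, xG_zero]

theorem r37_26 : X 37 u * (X 26 t * R) = X 26 t * (X 37 u * (X 39 (t * u) * (X 46 (t * u ^ 2) * R))) := by
  rw [swap (r := 26) (s := 37) (by decide) (by decide) (by decide) (by decide),
    show chevF4.commTerms 26 37 = [(39, -1, 1, 1), (46, -1, 1, 2)] from rfl]
  simp [CharTwo.neg_eq, CharTwo.two_eq_zero, mul_assoc, xG_zero]

theorem r38_26 : X 38 u * (X 26 t * R) = X 26 t * (X 38 u * R) := by
  rw [swap (r := 26) (s := 38) (by decide) (by decide) (by decide) (by decide),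
    show chevF4.commTerms 26 38 = [] from rfl]
  simp [CharTwo.neg_eq, CharTwo.two_eq_zero, mul_assoc, xG_zero]

theorem r39_26 : X 39 u * (X 26 t * R) = X 26 t * (X 39 u * R) := by
  rw [swap (r := 26) (s := 39) (by decide) (by decide) (by decide) (by decide),
    show chevF4.commTerms 26 39 = [] from rfl]
  simp [CharTwo.neg_eq, CharTwo.two_eq_zero, mul_assoc, xG_zero]

theorem r40_26 : X 40 u * (X 26 t * R) = X 26 t * (X 40 u * R) := by
  rw [swap (r := 26) (s := 40) (by decide) (by decide) (by decide) (by decide),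
    show chevF4.commTerms 26 40 = [] from rfl]
  simp [CharTwo.neg_eq, CharTwo.two_eq_zero, mul_assoc, xG_zero]

theorem r41_26 : X 41 u * (X 26 t * R) = X 26 t * (X 41 u * (X 43 (t * u) * R)) := by
  rw [swap (r := 26) (s := 41) (by decide) (by decide) (by decide) (by decide),
    show chevF4.commTerms 26 41 = [(43, -1, 1, 1)] from rfl]
  simp [CharTwo.neg_eq, CharTwo.two_eq_zero, mul_assoc, xG_zero]

theorem r42_26 : X 42 u * (X 26 t * R) = X 26 t * (X 42 u * R) := by
  rw [swap (r := 26) (s := 42) (by decide) (by decide) (by decide) (by decide),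
    show chevF4.commTerms 26 42 = [] from rfl]
  simp [CharTwo.neg_eq, CharTwo.two_eq_zero, mul_assoc, xG_zero]

theorem r43_26 : X 43 u * (X 26 t * R) = X 26 t * (X 43 u * R) := by
  rw [swap (r := 26) (s := 43) (by decide) (by decide) (by decide) (by decide),
    show chevF4.commTerms 26 43 = [] from rfl]
  simp [CharTwo.neg_eq, CharTwo.two_eq_zero, mul_assoc, xG_zero]

theorem r44_26 : X 44 u * (X 26 t * R) = X 26 t * (X 44 u * R) := by
  rw [swap (r := 26) (s := 44) (by decide) (by decide) (by decide) (by decide),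
    show chevF4.commTerms 26 44 = [] from rfl]
  simp [CharTwo.neg_eq, CharTwo.two_eq_zero, mul_assoc, xG_zero]

theorem r45_26 : X 45 u * (X 26 t * R) = X 26 t * (X 45 u * (X 47 (t * u) * R)) := by
  rw [swap (r := 26) (s := 45) (by decide) (by decide) (by decide) (by decide),
    show chevF4.commTerms 26 45 = [(47, 1, 1, 1)] from rfl]
  simp [CharTwo.neg_eq, CharTwo.two_eq_zero, mul_assoc, xG_zero]

theorem r46_26 : X 46 u * (X 26 t * R) = X 26 t * (X 46 u * R) := by
  rw [swap (r := 26) (s := 46) (by decide) (by decide) (by decide) (by decide),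
    show chevF4.commTerms 26 46 = [] from rfl]
  simp [CharTwo.neg_eq, CharTwo.two_eq_zero, mul_assoc, xG_zero]

theorem r47_26 : X 47 u * (X 26 t * R) = X 26 t * (X 47 u * R) := by
  rw [swap (r := 26) (s := 47) (by decide) (by decide) (by decide) (by decide),
    show chevF4.commTerms 26 47 = [] from rfl]
  simp [CharTwo.neg_eq, CharTwo.two_eq_zero, mul_assoc, xG_zero]

theorem r28_27 : X 28 u * (X 27 t * R) = X 27 t * (X 28 u * R) := by
  rw [swap (r := 27) (s := 28) (by decide) (by decide) (by decide) (by decide),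
    show chevF4.commTerms 27 28 = [(30, 2, 1, 1)] from rfl]
  simp [CharTwo.neg_eq, CharTwo.two_eq_zero, mul_assoc, xG_zero]

theorem r29_27 : X 29 u * (X 27 t * R) = X 27 t * (X 29 u * R) := by
  rw [swap (r := 27) (s := 29) (by decide) (by decide) (by decide) (by decide),
    show chevF4.commTerms 27 29 = [(31, 2, 1, 1)] from rfl]
  simp [CharTwo.neg_eq, CharTwo.two_eq_zero, mul_assoc, xG_zero]

theorem r30_27 : X 30 u * (X 27 t * R) = X 27 t * (X 30 u * R) := by
  rw [swap (r := 27) (s := 30) (by decide) (by decide) (by decide) (by decide),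
    show chevF4.commTerms 27 30 = [] from rfl]
  simp [CharTwo.neg_eq, CharTwo.two_eq_zero, mul_assoc, xG_zero]

theorem r31_27 : X 31 u * (X 27 t * R) = X 27 t * (X 31 u * R) := by
  rw [swap (r := 27) (s := 31) (by decide) (by decide) (by decide) (by decide),
    show chevF4.commTerms 27 31 = [] from rfl]
  simp [CharTwo.neg_eq, CharTwo.two_eq_zero, mul_assoc, xG_zero]

theorem r32_27 : X 32 u * (X 27 t * R) = X 27 t * (X 32 u * R) := by
  rw [swap (r := 27) (s := 32) (by decide) (by decide) (by decide) (by decide),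
    show chevF4.commTerms 27 32 = [] from rfl]
  simp [CharTwo.neg_eq, CharTwo.two_eq_zero, mul_assoc, xG_zero]

theorem r33_27 : X 33 u * (X 27 t * R) = X 27 t * (X 33 u * (X 34 (t * u) * R)) := by
  rw [swap (r := 27) (s := 33) (by decide) (by decide) (by decide) (by decide),
    show chevF4.commTerms 27 33 = [(34, 1, 1, 1)] from rfl]
  simp [CharTwo.neg_eq, CharTwo.two_eq_zero, mul_assoc, xG_zero]

theorem r34_27 : X 34 u * (X 27 t * R) = X 27 t * (X 34 u * R) := by
  rw [swap (r := 27) (s := 34) (by decide) (by decide) (by decide) (by decide),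
    show chevF4.commTerms 27 34 = [] from rfl]
  simp [CharTwo.neg_eq, CharTwo.two_eq_zero, mul_assoc, xG_zero]

theorem r35_27 : X 35 u * (X 27 t * R) = X 27 t * (X 35 u * (X 37 (t * u) * R)) := by
  rw [swap (r := 27) (s := 35) (by decide) (by decide) (by decide) (by decide),
    show chevF4.commTerms 27 35 = [(37, 1, 1, 1)] from rfl]
  simp [CharTwo.neg_eq, CharTwo.two_eq_zero, mul_assoc, xG_zero]

theorem r36_27 : X 36 u * (X 27 t * R) = X 27 t * (X 36 u * (X 38 (t * u) * R)) := by
  rw [swap (r := 27) (s := 36) (by decide) (by decide) (by decide) (by decide),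
    show chevF4.commTerms 27 36 = [(38, 1, 1, 1)] from rfl]
  simp [CharTwo.neg_eq, CharTwo.two_eq_zero, mul_assoc, xG_zero]

theorem r37_27 : X 37 u * (X 27 t * R) = X 27 t * (X 37 u * R) := by
  rw [swap (r := 27) (s := 37) (by decide) (by decide) (by decide) (by decide),
    show chevF4.commTerms 27 37 = [] from rfl]
  simp [CharTwo.neg_eq, CharTwo.two_eq_zero, mul_assoc, xG_zero]

theorem r38_27 : X 38 u * (X 27 t * R) = X 27 t * (X 38 u * R) := by
  rw [swap (r := 27) (s := 38) (by decide) (by decide) (by decide) (by decide),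
    show chevF4.commTerms 27 38 = [] from rfl]
  simp [CharTwo.neg_eq, CharTwo.two_eq_zero, mul_assoc, xG_zero]

theorem r39_27 : X 39 u * (X 27 t * R) = X 27 t * (X 39 u * (X 40 (t * u) * R)) := by
  rw [swap (r := 27) (s := 39) (by decide) (by decide) (by decide) (by decide),
    show chevF4.commTerms 27 39 = [(40, 1, 1, 1)] from rfl]
  simp [CharTwo.neg_eq, CharTwo.two_eq_zero, mul_assoc, xG_zero]

theorem r40_27 : X 40 u * (X 27 t * R) = X 27 t * (X 40 u * R) := by
  rw [swap (r := 27) (s := 40) (by decide) (by decide) (by decide) (by decide),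
    show chevF4.commTerms 27 40 = [] from rfl]
  simp [CharTwo.neg_eq, CharTwo.two_eq_zero, mul_assoc, xG_zero]

theorem r41_27 : X 41 u * (X 27 t * R) = X 27 t * (X 41 u * R) := by
  rw [swap (r := 27) (s := 41) (by decide) (by decide) (by decide) (by decide),
    show chevF4.commTerms 27 41 = [] from rfl]
  simp [CharTwo.neg_eq, CharTwo.two_eq_zero, mul_assoc, xG_zero]

theorem r42_27 : X 42 u * (X 27 t * R) = X 27 t * (X 42 u * R) := by
  rw [swap (r := 27) (s := 42) (by decide) (by decide) (by decide) (by decide),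
    show chevF4.commTerms 27 42 = [] from rfl]
  simp [CharTwo.neg_eq, CharTwo.two_eq_zero, mul_assoc, xG_zero]

theorem r43_27 : X 43 u * (X 27 t * R) = X 27 t * (X 43 u * (X 44 (t * u) * (X 45 (t ^ 2 * u) * R))) := by
  rw [swap (r := 27) (s := 43) (by decide) (by decide) (by decide) (by decide),
    show chevF4.commTerms 27 43 = [(44, 1, 1, 1), (45, 1, 2, 1)] from rfl]
  simp [CharTwo.neg_eq, CharTwo.two_eq_zero, mul_assoc, xG_zero]

theorem r44_27 : X 44 u * (X 27 t * R) = X 27 t * (X 44 u * R) := by
  rw [swap (r := 27) (s := 44) (by decide) (by decide) (by decide) (by decide),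
    show chevF4.commTerms 27 44 = [(45, 2, 1, 1)] from rfl]
  simp [CharTwo.neg_eq, CharTwo.two_eq_zero, mul_assoc, xG_zero]

theorem r45_27 : X 45 u * (X 27 t * R) = X 27 t * (X 45 u * R) := by
  rw [swap (r := 27) (s := 45) (by decide) (by decide) (by decide) (by decide),
    show chevF4.commTerms 27 45 = [] from rfl]
  simp [CharTwo.neg_eq, CharTwo.two_eq_zero, mul_assoc, xG_zero]

theorem r46_27 : X 46 u * (X 27 t * R) = X 27 t * (X 46 u * R) := by
  rw [swap (r := 27) (s := 46) (by decide) (by decide) (by decide) (by decide),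
    show chevF4.commTerms 27 46 = [] from rfl]
  simp [CharTwo.neg_eq, CharTwo.two_eq_zero, mul_assoc, xG_zero]

theorem r47_27 : X 47 u * (X 27 t * R) = X 27 t * (X 47 u * R) := by
  rw [swap (r := 27) (s := 47) (by decide) (by decide) (by decide) (by decide),
    show chevF4.commTerms 27 47 = [] from rfl]
  simp [CharTwo.neg_eq, CharTwo.two_eq_zero, mul_assoc, xG_zero]

theorem r29_28 : X 29 u * (X 28 t * R) = X 28 t * (X 29 u * R) := by
  rw [swap (r := 28) (s := 29) (by decide) (by decide) (by decide) (by decide),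
    show chevF4.commTerms 28 29 = [(32, 2, 1, 1)] from rfl]
  simp [CharTwo.neg_eq, CharTwo.two_eq_zero, mul_assoc, xG_zero]

theorem r30_28 : X 30 u * (X 28 t * R) = X 28 t * (X 30 u * R) := by
  rw [swap (r := 28) (s := 30) (by decide) (by decide) (by decide) (by decide),
    show chevF4.commTerms 28 30 = [] from rfl]
  simp [CharTwo.neg_eq, CharTwo.two_eq_zero, mul_assoc, xG_zero]

theorem r31_28 : X 31 u * (X 28 t * R) = X 28 t * (X 31 u * R) := by
  rw [swap (r := 28) (s := 31) (by decide) (by decide) (by decide) (by decide),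
    show chevF4.commTerms 28 31 = [] from rfl]
  simp [CharTwo.neg_eq, CharTwo.two_eq_zero, mul_assoc, xG_zero]

theorem r32_28 : X 32 u * (X 28 t * R) = X 28 t * (X 32 u * R) := by
  rw [swap (r := 28) (s := 32) (by decide) (by decide) (by decide) (by decide),
    show chevF4.commTerms 28 32 = [] from rfl]
  simp [CharTwo.neg_eq, CharTwo.two_eq_zero, mul_assoc, xG_zero]

theorem r33_28 : X 33 u * (X 28 t * R) = X 28 t * (X 33 u * (X 35 (t * u) * R)) := by
  rw [swap (r := 28) (s := 33) (by decide) (by decide) (by decide) (by decide),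
    show chevF4.commTerms 28 33 = [(35, 1, 1, 1)] from rfl]
  simp [CharTwo.neg_eq, CharTwo.two_eq_zero, mul_assoc, xG_zero]

theorem r34_28 : X 34 u * (X 28 t * R) = X 28 t * (X 34 u * (X 37 (t * u) * R)) := by
  rw [swap (r := 28) (s := 34) (by decide) (by decide) (by decide) (by decide),
    show chevF4.commTerms 28 34 = [(37, -1, 1, 1)] from rfl]
  simp [CharTwo.neg_eq, CharTwo.two_eq_zero, mul_assoc, xG_zero]

theorem r35_28 : X 35 u * (X 28 t * R) = X 28 t * (X 35 u * R) := by
  rw [swap (r := 28) (s := 35) (by decide) (by decide) (by decide) (by decide),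
    show chevF4.commTerms 28 35 = [] from rfl]
  simp [CharTwo.neg_eq, CharTwo.two_eq_zero, mul_assoc, xG_zero]

theorem r36_28 : X 36 u * (X 28 t * R) = X 28 t * (X 36 u * (X 39 (t * u) * R)) := by
  rw [swap (r := 28) (s := 36) (by decide) (by decide) (by decide) (by decide),
    show chevF4.commTerms 28 36 = [(39, 1, 1, 1)] from rfl]
  simp [CharTwo.neg_eq, CharTwo.two_eq_zero, mul_assoc, xG_zero]

theorem r37_28 : X 37 u * (X 28 t * R) = X 28 t * (X 37 u * R) := by
  rw [swap (r := 28) (s := 37) (by decide) (by decide) (by decide) (by decide),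
    show chevF4.commTerms 28 37 = [] from rfl]
  simp [CharTwo.neg_eq, CharTwo.two_eq_zero, mul_assoc, xG_zero]

theorem r38_28 : X 38 u * (X 28 t * R) = X 28 t * (X 38 u * (X 40 (t * u) * R)) := by
  rw [swap (r := 28) (s := 38) (by decide) (by decide) (by decide) (by decide),
    show chevF4.commTerms 28 38 = [(40, -1, 1, 1)] from rfl]
  simp [CharTwo.neg_eq, CharTwo.two_eq_zero, mul_assoc, xG_zero]

theorem r39_28 : X 39 u * (X 28 t * R) = X 28 t * (X 39 u * R) := by
  rw [swap (r := 28) (s := 39) (by decide) (by decide) (by decide) (by decide),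
    show chevF4.commTerms 28 39 = [] from rfl]
  simp [CharTwo.neg_eq, CharTwo.two_eq_zero, mul_assoc, xG_zero]

theorem r40_28 : X 40 u * (X 28 t * R) = X 28 t * (X 40 u * R) := by
  rw [swap (r := 28) (s := 40) (by decide) (by decide) (by decide) (by decide),
    show chevF4.commTerms 28 40 = [] from rfl]
  simp [CharTwo.neg_eq, CharTwo.two_eq_zero, mul_assoc, xG_zero]

theorem r41_28 : X 41 u * (X 28 t * R) = X 28 t * (X 41 u * R) := by
  rw [swap (r := 28) (s := 41) (by decide) (by decide) (by decide) (by decide),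
    show chevF4.commTerms 28 41 = [] from rfl]
  simp [CharTwo.neg_eq, CharTwo.two_eq_zero, mul_assoc, xG_zero]

theorem r42_28 : X 42 u * (X 28 t * R) = X 28 t * (X 42 u * (X 44 (t * u) * (X 46 (t ^ 2 * u) * R))) := by
  rw [swap (r := 28) (s := 42) (by decide) (by decide) (by decide) (by decide),
    show chevF4.commTerms 28 42 = [(44, -1, 1, 1), (46, -1, 2, 1)] from rfl]
  simp [CharTwo.neg_eq, CharTwo.two_eq_zero, mul_assoc, xG_zero]

theorem r43_28 : X 43 u * (X 28 t * R) = X 28 t * (X 43 u * R) := by
  rw [swap (r := 28) (s := 43) (by decide) (by decide) (by decide) (by decide),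
    show chevF4.commTerms 28 43 = [] from rfl]
  simp [CharTwo.neg_eq, CharTwo.two_eq_zero, mul_assoc, xG_zero]

theorem r44_28 : X 44 u * (X 28 t * R) = X 28 t * (X 44 u * R) := by
  rw [swap (r := 28) (s := 44) (by decide) (by decide) (by decide) (by decide),
    show chevF4.commTerms 28 44 = [(46, 2, 1, 1)] from rfl]
  simp [CharTwo.neg_eq, CharTwo.two_eq_zero, mul_assoc, xG_zero]

theorem r45_28 : X 45 u * (X 28 t * R) = X 28 t * (X 45 u * R) := by
  rw [swap (r := 28) (s := 45) (by decide) (by decide) (by decide) (by decide),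
    show chevF4.commTerms 28 45 = [] from rfl]
  simp [CharTwo.neg_eq, CharTwo.two_eq_zero, mul_assoc, xG_zero]

theorem r46_28 : X 46 u * (X 28 t * R) = X 28 t * (X 46 u * R) := by
  rw [swap (r := 28) (s := 46) (by decide) (by decide) (by decide) (by decide),
    show chevF4.commTerms 28 46 = [] from rfl]
  simp [CharTwo.neg_eq, CharTwo.two_eq_zero, mul_assoc, xG_zero]

theorem r47_28 : X 47 u * (X 28 t * R) = X 28 t * (X 47 u * R) := by
  rw [swap (r := 28) (s := 47) (by decide) (by decide) (by decide) (by decide),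
    show chevF4.commTerms 28 47 = [] from rfl]
  simp [CharTwo.neg_eq, CharTwo.two_eq_zero, mul_assoc, xG_zero]

theorem r30_29 : X 30 u * (X 29 t * R) = X 29 t * (X 30 u * R) := by
  rw [swap (r := 29) (s := 30) (by decide) (by decide) (by decide) (by decide),
    show chevF4.commTerms 29 30 = [] from rfl]
  simp [CharTwo.neg_eq, CharTwo.two_eq_zero, mul_assoc, xG_zero]

theorem r31_29 : X 31 u * (X 29 t * R) = X 29 t * (X 31 u * R) := by
  rw [swap (r := 29) (s := 31) (by decide) (by decide) (by decide) (by decide),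
    show chevF4.commTerms 29 31 = [] from rfl]
  simp [CharTwo.neg_eq, CharTwo.two_eq_zero, mul_assoc, xG_zero]

theorem r32_29 : X 32 u * (X 29 t * R) = X 29 t * (X 32 u * R) := by
  rw [swap (r := 29) (s := 32) (by decide) (by decide) (by decide) (by decide),
    show chevF4.commTerms 29 32 = [] from rfl]
  simp [CharTwo.neg_eq, CharTwo.two_eq_zero, mul_assoc, xG_zero]

theorem r33_29 : X 33 u * (X 29 t * R) = X 29 t * (X 33 u * (X 36 (t * u) * R)) := by
  rw [swap (r := 29) (s := 33) (by decide) (by decide) (by decide) (by decide),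
    show chevF4.commTerms 29 33 = [(36, 1, 1, 1)] from rfl]
  simp [CharTwo.neg_eq, CharTwo.two_eq_zero, mul_assoc, xG_zero]

theorem r34_29 : X 34 u * (X 29 t * R) = X 29 t * (X 34 u * (X 38 (t * u) * R)) := by
  rw [swap (r := 29) (s := 34) (by decide) (by decide) (by decide) (by decide),
    show chevF4.commTerms 29 34 = [(38, -1, 1, 1)] from rfl]
  simp [CharTwo.neg_eq, CharTwo.two_eq_zero, mul_assoc, xG_zero]

theorem r35_29 : X 35 u * (X 29 t * R) = X 29 t * (X 35 u * (X 39 (t * u) * R)) := by
  rw [swap (r := 29) (s := 35) (by decide) (by decide) (by decide) (by decide),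
    show chevF4.commTerms 29 35 = [(39, -1, 1, 1)] from rfl]
  simp [CharTwo.neg_eq, CharTwo.two_eq_zero, mul_assoc, xG_zero]

theorem r36_29 : X 36 u * (X 29 t * R) = X 29 t * (X 36 u * R) := by
  rw [swap (r := 29) (s := 36) (by decide) (by decide) (by decide) (by decide),
    show chevF4.commTerms 29 36 = [] from rfl]
  simp [CharTwo.neg_eq, CharTwo.two_eq_zero, mul_assoc, xG_zero]

theorem r37_29 : X 37 u * (X 29 t * R) = X 29 t * (X 37 u * (X 40 (t * u) * R)) := by
  rw [swap (r := 29) (s := 37) (by decide) (by decide) (by decide) (by decide),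
    show chevF4.commTerms 29 37 = [(40, 1, 1, 1)] from rfl]
  simp [CharTwo.neg_eq, CharTwo.two_eq_zero, mul_assoc, xG_zero]

theorem r38_29 : X 38 u * (X 29 t * R) = X 29 t * (X 38 u * R) := by
  rw [swap (r := 29) (s := 38) (by decide) (by decide) (by decide) (by decide),
    show chevF4.commTerms 29 38 = [] from rfl]
  simp [CharTwo.neg_eq, CharTwo.two_eq_zero, mul_assoc, xG_zero]

theorem r39_29 : X 39 u * (X 29 t * R) = X 29 t * (X 39 u * R) := by
  rw [swap (r := 29) (s := 39) (by decide) (by decide) (by decide) (by decide),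
    show chevF4.commTerms 29 39 = [] from rfl]
  simp [CharTwo.neg_eq, CharTwo.two_eq_zero, mul_assoc, xG_zero]

theorem r40_29 : X 40 u * (X 29 t * R) = X 29 t * (X 40 u * R) := by
  rw [swap (r := 29) (s := 40) (by decide) (by decide) (by decide) (by decide),
    show chevF4.commTerms 29 40 = [] from rfl]
  simp [CharTwo.neg_eq, CharTwo.two_eq_zero, mul_assoc, xG_zero]

theorem r41_29 : X 41 u * (X 29 t * R) = X 29 t * (X 41 u * (X 44 (t * u) * (X 47 (t ^ 2 * u) * R))) := by
  rw [swap (r := 29) (s := 41) (by decide) (by decide) (by decide) (by decide),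
    show chevF4.commTerms 29 41 = [(44, 1, 1, 1), (47, 1, 2, 1)] from rfl]
  simp [CharTwo.neg_eq, CharTwo.two_eq_zero, mul_assoc, xG_zero]

theorem r42_29 : X 42 u * (X 29 t * R) = X 29 t * (X 42 u * R) := by
  rw [swap (r := 29) (s := 42) (by decide) (by decide) (by decide) (by decide),
    show chevF4.commTerms 29 42 = [] from rfl]
  simp [CharTwo.neg_eq, CharTwo.two_eq_zero, mul_assoc, xG_zero]

theorem r43_29 : X 43 u * (X 29 t * R) = X 29 t * (X 43 u * R) := by
  rw [swap (r := 29) (s := 43) (by decide) (by decide) (by decide) (by decide),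
    show chevF4.commTerms 29 43 = [] from rfl]
  simp [CharTwo.neg_eq, CharTwo.two_eq_zero, mul_assoc, xG_zero]

theorem r44_29 : X 44 u * (X 29 t * R) = X 29 t * (X 44 u * R) := by
  rw [swap (r := 29) (s := 44) (by decide) (by decide) (by decide) (by decide),
    show chevF4.commTerms 29 44 = [(47, 2, 1, 1)] from rfl]
  simp [CharTwo.neg_eq, CharTwo.two_eq_zero, mul_assoc, xG_zero]

theorem r45_29 : X 45 u * (X 29 t * R) = X 29 t * (X 45 u * R) := by
  rw [swap (r := 29) (s := 45) (by decide) (by decide) (by decide) (by decide),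
    show chevF4.commTerms 29 45 = [] from rfl]
  simp [CharTwo.neg_eq, CharTwo.two_eq_zero, mul_assoc, xG_zero]

theorem r46_29 : X 46 u * (X 29 t * R) = X 29 t * (X 46 u * R) := by
  rw [swap (r := 29) (s := 46) (by decide) (by decide) (by decide) (by decide),
    show chevF4.commTerms 29 46 = [] from rfl]
  simp [CharTwo.neg_eq, CharTwo.two_eq_zero, mul_assoc, xG_zero]

theorem r47_29 : X 47 u * (X 29 t * R) = X 29 t * (X 47 u * R) := by
  rw [swap (r := 29) (s := 47) (by decide) (by decide) (by decide) (by decide),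
    show chevF4.commTerms 29 47 = [] from rfl]
  simp [CharTwo.neg_eq, CharTwo.two_eq_zero, mul_assoc, xG_zero]

theorem r31_30 : X 31 u * (X 30 t * R) = X 30 t * (X 31 u * R) := by
  rw [swap (r := 30) (s := 31) (by decide) (by decide) (by decide) (by decide),
    show chevF4.commTerms 30 31 = [] from rfl]
  simp [CharTwo.neg_eq, CharTwo.two_eq_zero, mul_assoc, xG_zero]

theorem r32_30 : X 32 u * (X 30 t * R) = X 30 t * (X 32 u * R) := by
  rw [swap (r := 30) (s := 32) (by decide) (by decide) (by decide) (by decide),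
    show chevF4.commTerms 30 32 = [] from rfl]
  simp [CharTwo.neg_eq, CharTwo.two_eq_zero, mul_assoc, xG_zero]

theorem r33_30 : X 33 u * (X 30 t * R) = X 30 t * (X 33 u * (X 37 (t * u) * (X 41 (t * u ^ 2) * R))) := by
  rw [swap (r := 30) (s := 33) (by decide) (by decide) (by decide) (by decide),
    show chevF4.commTerms 30 33 = [(37, 1, 1, 1), (41, -1, 1, 2)] from rfl]
  simp [CharTwo.neg_eq, CharTwo.two_eq_zero, mul_assoc, xG_zero]

theorem r34_30 : X 34 u * (X 30 t * R) = X 30 t * (X 34 u * R) := by
  rw [swap (r := 30) (s := 34) (by decide) (by decide) (by decide) (by decide),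
    show chevF4.commTerms 30 34 = [] from rfl]
  simp [CharTwo.neg_eq, CharTwo.two_eq_zero, mul_assoc, xG_zero]

theorem r35_30 : X 35 u * (X 30 t * R) = X 30 t * (X 35 u * R) := by
  rw [swap (r := 30) (s := 35) (by decide) (by decide) (by decide) (by decide),
    show chevF4.commTerms 30 35 = [] from rfl]
  simp [CharTwo.neg_eq, CharTwo.two_eq_zero, mul_assoc, xG_zero]

theorem r36_30 : X 36 u * (X 30 t * R) = X 30 t * (X 36 u * (X 40 (t * u) * (X 47 (t * u ^ 2) * R))) := by
  rw [swap (r := 30) (s := 36) (by decide) (by decide) (by decide) (by decide),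
    show chevF4.commTerms 30 36 = [(40, 1, 1, 1), (47, -1, 1, 2)] from rfl]
  simp [CharTwo.neg_eq, CharTwo.two_eq_zero, mul_assoc, xG_zero]

theorem r37_30 : X 37 u * (X 30 t * R) = X 30 t * (X 37 u * R) := by
  rw [swap (r := 30) (s := 37) (by decide) (by decide) (by decide) (by decide),
    show chevF4.commTerms 30 37 = [] from rfl]
  simp [CharTwo.neg_eq, CharTwo.two_eq_zero, mul_assoc, xG_zero]

theorem r38_30 : X 38 u * (X 30 t * R) = X 30 t * (X 38 u * R) := by
  rw [swap (r := 30) (s := 38) (by decide) (by decide) (by decide) (by decide),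
    show chevF4.commTerms 30 38 = [] from rfl]
  simp [CharTwo.neg_eq, CharTwo.two_eq_zero, mul_assoc, xG_zero]

theorem r39_30 : X 39 u * (X 30 t * R) = X 30 t * (X 39 u * R) := by
  rw [swap (r := 30) (s := 39) (by decide) (by decide) (by decide) (by decide),
    show chevF4.commTerms 30 39 = [] from rfl]
  simp [CharTwo.neg_eq, CharTwo.two_eq_zero, mul_assoc, xG_zero]

theorem r40_30 : X 40 u * (X 30 t * R) = X 30 t * (X 40 u * R) := by
  rw [swap (r := 30) (s := 40) (by decide) (by decide) (by decide) (by decide),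
    show chevF4.commTerms 30 40 = [] from rfl]
  simp [CharTwo.neg_eq, CharTwo.two_eq_zero, mul_assoc, xG_zero]

theorem r41_30 : X 41 u * (X 30 t * R) = X 30 t * (X 41 u * R) := by
  rw [swap (r := 30) (s := 41) (by decide) (by decide) (by decide) (by decide),
    show chevF4.commTerms 30 41 = [] from rfl]
  simp [CharTwo.neg_eq, CharTwo.two_eq_zero, mul_assoc, xG_zero]

theorem r42_30 : X 42 u * (X 30 t * R) = X 30 t * (X 42 u * (X 45 (t * u) * R)) := by
  rw [swap (r := 30) (s := 42) (by decide) (by decide) (by decide) (by decide),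
    show chevF4.commTerms 30 42 = [(45, -1, 1, 1)] from rfl]
  simp [CharTwo.neg_eq, CharTwo.two_eq_zero, mul_assoc, xG_zero]

theorem r43_30 : X 43 u * (X 30 t * R) = X 30 t * (X 43 u * (X 46 (t * u) * R)) := by
  rw [swap (r := 30) (s := 43) (by decide) (by decide) (by decide) (by decide),
    show chevF4.commTerms 30 43 = [(46, -1, 1, 1)] from rfl]
  simp [CharTwo.neg_eq, CharTwo.two_eq_zero, mul_assoc, xG_zero]

theorem r44_30 : X 44 u * (X 30 t * R) = X 30 t * (X 44 u * R) := by
  rw [swap (r := 30) (s := 44) (by decide) (by decide) (by decide) (by decide),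
    show chevF4.commTerms 30 44 = [] from rfl]
  simp [CharTwo.neg_eq, CharTwo.two_eq_zero, mul_assoc, xG_zero]

theorem r45_30 : X 45 u * (X 30 t * R) = X 30 t * (X 45 u * R) := by
  rw [swap (r := 30) (s := 45) (by decide) (by decide) (by decide) (by decide),
    show chevF4.commTerms 30 45 = [] from rfl]
  simp [CharTwo.neg_eq, CharTwo.two_eq_zero, mul_assoc, xG_zero]

theorem r46_30 : X 46 u * (X 30 t * R) = X 30 t * (X 46 u * R) := by
  rw [swap (r := 30) (s := 46) (by decide) (by decide) (by decide) (by decide),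
    show chevF4.commTerms 30 46 = [] from rfl]
  simp [CharTwo.neg_eq, CharTwo.two_eq_zero, mul_assoc, xG_zero]

theorem r47_30 : X 47 u * (X 30 t * R) = X 30 t * (X 47 u * R) := by
  rw [swap (r := 30) (s := 47) (by decide) (by decide) (by decide) (by decide),
    show chevF4.commTerms 30 47 = [] from rfl]
  simp [CharTwo.neg_eq, CharTwo.two_eq_zero, mul_assoc, xG_zero]

theorem r32_31 : X 32 u * (X 31 t * R) = X 31 t * (X 32 u * R) := by
  rw [swap (r := 31) (s := 32) (by decide) (by decide) (by decide) (by decide),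
    show chevF4.commTerms 31 32 = [] from rfl]
  simp [CharTwo.neg_eq, CharTwo.two_eq_zero, mul_assoc, xG_zero]

theorem r33_31 : X 33 u * (X 31 t * R) = X 31 t * (X 33 u * (X 38 (t * u) * (X 42 (t * u ^ 2) * R))) := by
  rw [swap (r := 31) (s := 33) (by decide) (by decide) (by decide) (by decide),
    show chevF4.commTerms 31 33 = [(38, 1, 1, 1), (42, -1, 1, 2)] from rfl]
  simp [CharTwo.neg_eq, CharTwo.two_eq_zero, mul_assoc, xG_zero]

theorem r34_31 : X 34 u * (X 31 t * R) = X 31 t * (X 34 u * R) := by
  rw [swap (r := 31) (s := 34) (by decide) (by decide) (by decide) (by decide),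
    show chevF4.commTerms 31 34 = [] from rfl]
  simp [CharTwo.neg_eq, CharTwo.two_eq_zero, mul_assoc, xG_zero]

theorem r35_31 : X 35 u * (X 31 t * R) = X 31 t * (X 35 u * (X 40 (t * u) * (X 46 (t * u ^ 2) * R))) := by
  rw [swap (r := 31) (s := 35) (by decide) (by decide) (by decide) (by decide),
    show chevF4.commTerms 31 35 = [(40, -1, 1, 1), (46, 1, 1, 2)] from rfl]
  simp [CharTwo.neg_eq, CharTwo.two_eq_zero, mul_assoc, xG_zero]

theorem r36_31 : X 36 u * (X 31 t * R) = X 31 t * (X 36 u * R) := by
  rw [swap (r := 31) (s := 36) (by decide) (by decide) (by decide) (by decide),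
    show chevF4.commTerms 31 36 = [] from rfl]
  simp [CharTwo.neg_eq, CharTwo.two_eq_zero, mul_assoc, xG_zero]

theorem r37_31 : X 37 u * (X 31 t * R) = X 31 t * (X 37 u * R) := by
  rw [swap (r := 31) (s := 37) (by decide) (by decide) (by decide) (by decide),
    show chevF4.commTerms 31 37 = [] from rfl]
  simp [CharTwo.neg_eq, CharTwo.two_eq_zero, mul_assoc, xG_zero]

theorem r38_31 : X 38 u * (X 31 t * R) = X 31 t * (X 38 u * R) := by
  rw [swap (r := 31) (s := 38) (by decide) (by decide) (by decide) (by decide),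
    show chevF4.commTerms 31 38 = [] from rfl]
  simp [CharTwo.neg_eq, CharTwo.two_eq_zero, mul_assoc, xG_zero]

theorem r39_31 : X 39 u * (X 31 t * R) = X 31 t * (X 39 u * R) := by
  rw [swap (r := 31) (s := 39) (by decide) (by decide) (by decide) (by decide),
    show chevF4.commTerms 31 39 = [] from rfl]
  simp [CharTwo.neg_eq, CharTwo.two_eq_zero, mul_assoc, xG_zero]

theorem r40_31 : X 40 u * (X 31 t * R) = X 31 t * (X 40 u * R) := by
  rw [swap (r := 31) (s := 40) (by decide) (by decide) (by decide) (by decide),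
    show chevF4.commTerms 31 40 = [] from rfl]
  simp [CharTwo.neg_eq, CharTwo.two_eq_zero, mul_assoc, xG_zero]

theorem r41_31 : X 41 u * (X 31 t * R) = X 31 t * (X 41 u * (X 45 (t * u) * R)) := by
  rw [swap (r := 31) (s := 41) (by decide) (by decide) (by decide) (by decide),
    show chevF4.commTerms 31 41 = [(45, 1, 1, 1)] from rfl]
  simp [CharTwo.neg_eq, CharTwo.two_eq_zero, mul_assoc, xG_zero]

theorem r42_31 : X 42 u * (X 31 t * R) = X 31 t * (X 42 u * R) := by
  rw [swap (r := 31) (s := 42) (by decide) (by decide) (by decide) (by decide),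
    show chevF4.commTerms 31 42 = [] from rfl]
  simp [CharTwo.neg_eq, CharTwo.two_eq_zero, mul_assoc, xG_zero]

theorem r43_31 : X 43 u * (X 31 t * R) = X 31 t * (X 43 u * (X 47 (t * u) * R)) := by
  rw [swap (r := 31) (s := 43) (by decide) (by decide) (by decide) (by decide),
    show chevF4.commTerms 31 43 = [(47, -1, 1, 1)] from rfl]
  simp [CharTwo.neg_eq, CharTwo.two_eq_zero, mul_assoc, xG_zero]

theorem r44_31 : X 44 u * (X 31 t * R) = X 31 t * (X 44 u * R) := by
  rw [swap (r := 31) (s := 44) (by decide) (by decide) (by decide) (by decide),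
    show chevF4.commTerms 31 44 = [] from rfl]
  simp [CharTwo.neg_eq, CharTwo.two_eq_zero, mul_assoc, xG_zero]

theorem r45_31 : X 45 u * (X 31 t * R) = X 31 t * (X 45 u * R) := by
  rw [swap (r := 31) (s := 45) (by decide) (by decide) (by decide) (by decide),
    show chevF4.commTerms 31 45 = [] from rfl]
  simp [CharTwo.neg_eq, CharTwo.two_eq_zero, mul_assoc, xG_zero]

theorem r46_31 : X 46 u * (X 31 t * R) = X 31 t * (X 46 u * R) := by
  rw [swap (r := 31) (s := 46) (by decide) (by decide) (by decide) (by decide),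
    show chevF4.commTerms 31 46 = [] from rfl]
  simp [CharTwo.neg_eq, CharTwo.two_eq_zero, mul_assoc, xG_zero]

theorem r47_31 : X 47 u * (X 31 t * R) = X 31 t * (X 47 u * R) := by
  rw [swap (r := 31) (s := 47) (by decide) (by decide) (by decide) (by decide),
    show chevF4.commTerms 31 47 = [] from rfl]
  simp [CharTwo.neg_eq, CharTwo.two_eq_zero, mul_assoc, xG_zero]

theorem r33_32 : X 33 u * (X 32 t * R) = X 32 t * (X 33 u * (X 39 (t * u) * (X 43 (t * u ^ 2) * R))) := by
  rw [swap (r := 32) (s := 33) (by decide) (by decide) (by decide) (by decide),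
    show chevF4.commTerms 32 33 = [(39, 1, 1, 1), (43, -1, 1, 2)] from rfl]
  simp [CharTwo.neg_eq, CharTwo.two_eq_zero, mul_assoc, xG_zero]

theorem r34_32 : X 34 u * (X 32 t * R) = X 32 t * (X 34 u * (X 40 (t * u) * (X 45 (t * u ^ 2) * R))) := by
  rw [swap (r := 32) (s := 34) (by decide) (by decide) (by decide) (by decide),
    show chevF4.commTerms 32 34 = [(40, 1, 1, 1), (45, -1, 1, 2)] from rfl]
  simp [CharTwo.neg_eq, CharTwo.two_eq_zero, mul_assoc, xG_zero]

theorem r35_32 : X 35 u * (X 32 t * R) = X 32 t * (X 35 u * R) := by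
  rw [swap (r := 32) (s := 35) (by decide) (by decide) (by decide) (by decide),
    show chevF4.commTerms 32 35 = [] from rfl]
  simp [CharTwo.neg_eq, CharTwo.two_eq_zero, mul_assoc, xG_zero]

theorem r36_32 : X 36 u * (X 32 t * R) = X 32 t * (X 36 u * R) := by
  rw [swap (r := 32) (s := 36) (by decide) (by decide) (by decide) (by decide),
    show chevF4.commTerms 32 36 = [] from rfl]
  simp [CharTwo.neg_eq, CharTwo.two_eq_zero, mul_assoc, xG_zero]

theorem r37_32 : X 37 u * (X 32 t * R) = X 32 t * (X 37 u * R) := by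
  rw [swap (r := 32) (s := 37) (by decide) (by decide) (by decide) (by decide),
    show chevF4.commTerms 32 37 = [] from rfl]
  simp [CharTwo.neg_eq, CharTwo.two_eq_zero, mul_assoc, xG_zero]

theorem r38_32 : X 38 u * (X 32 t * R) = X 32 t * (X 38 u * R) := by
  rw [swap (r := 32) (s := 38) (by decide) (by decide) (by decide) (by decide),
    show chevF4.commTerms 32 38 = [] from rfl]
  simp [CharTwo.neg_eq, CharTwo.two_eq_zero, mul_assoc, xG_zero]

theorem r39_32 : X 39 u * (X 32 t * R) = X 32 t * (X 39 u * R) := by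
  rw [swap (r := 32) (s := 39) (by decide) (by decide) (by decide) (by decide),
    show chevF4.commTerms 32 39 = [] from rfl]
  simp [CharTwo.neg_eq, CharTwo.two_eq_zero, mul_assoc, xG_zero]

theorem r40_32 : X 40 u * (X 32 t * R) = X 32 t * (X 40 u * R) := by
  rw [swap (r := 32) (s := 40) (by decide) (by decide) (by decide) (by decide),
    show chevF4.commTerms 32 40 = [] from rfl]
  simp [CharTwo.neg_eq, CharTwo.two_eq_zero, mul_assoc, xG_zero]

theorem r41_32 : X 41 u * (X 32 t * R) = X 32 t * (X 41 u * (X 46 (t * u) * R)) := by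
  rw [swap (r := 32) (s := 41) (by decide) (by decide) (by decide) (by decide),
    show chevF4.commTerms 32 41 = [(46, 1, 1, 1)] from rfl]
  simp [CharTwo.neg_eq, CharTwo.two_eq_zero, mul_assoc, xG_zero]

theorem r42_32 : X 42 u * (X 32 t * R) = X 32 t * (X 42 u * (X 47 (t * u) * R)) := by
  rw [swap (r := 32) (s := 42) (by decide) (by decide) (by decide) (by decide),
    show chevF4.commTerms 32 42 = [(47, 1, 1, 1)] from rfl]
  simp [CharTwo.neg_eq, CharTwo.two_eq_zero, mul_assoc, xG_zero]

theorem r43_32 : X 43 u * (X 32 t * R) = X 32 t * (X 43 u * R) := by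
  rw [swap (r := 32) (s := 43) (by decide) (by decide) (by decide) (by decide),
    show chevF4.commTerms 32 43 = [] from rfl]
  simp [CharTwo.neg_eq, CharTwo.two_eq_zero, mul_assoc, xG_zero]

theorem r44_32 : X 44 u * (X 32 t * R) = X 32 t * (X 44 u * R) := by
  rw [swap (r := 32) (s := 44) (by decide) (by decide) (by decide) (by decide),
    show chevF4.commTerms 32 44 = [] from rfl]
  simp [CharTwo.neg_eq, CharTwo.two_eq_zero, mul_assoc, xG_zero]

theorem r45_32 : X 45 u * (X 32 t * R) = X 32 t * (X 45 u * R) := by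
  rw [swap (r := 32) (s := 45) (by decide) (by decide) (by decide) (by decide),
    show chevF4.commTerms 32 45 = [] from rfl]
  simp [CharTwo.neg_eq, CharTwo.two_eq_zero, mul_assoc, xG_zero]

theorem r46_32 : X 46 u * (X 32 t * R) = X 32 t * (X 46 u * R) := by
  rw [swap (r := 32) (s := 46) (by decide) (by decide) (by decide) (by decide),
    show chevF4.commTerms 32 46 = [] from rfl]
  simp [CharTwo.neg_eq, CharTwo.two_eq_zero, mul_assoc, xG_zero]

theorem r47_32 : X 47 u * (X 32 t * R) = X 32 t * (X 47 u * R) := by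
  rw [swap (r := 32) (s := 47) (by decide) (by decide) (by decide) (by decide),
    show chevF4.commTerms 32 47 = [] from rfl]
  simp [CharTwo.neg_eq, CharTwo.two_eq_zero, mul_assoc, xG_zero]

theorem r34_33 : X 34 u * (X 33 t * R) = X 33 t * (X 34 u * R) := by
  rw [swap (r := 33) (s := 34) (by decide) (by decide) (by decide) (by decide),
    show chevF4.commTerms 33 34 = [] from rfl]
  simp [CharTwo.neg_eq, CharTwo.two_eq_zero, mul_assoc, xG_zero]

theorem r35_33 : X 35 u * (X 33 t * R) = X 33 t * (X 35 u * R) := by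
  rw [swap (r := 33) (s := 35) (by decide) (by decide) (by decide) (by decide),
    show chevF4.commTerms 33 35 = [] from rfl]
  simp [CharTwo.neg_eq, CharTwo.two_eq_zero, mul_assoc, xG_zero]

theorem r36_33 : X 36 u * (X 33 t * R) = X 33 t * (X 36 u * R) := by
  rw [swap (r := 33) (s := 36) (by decide) (by decide) (by decide) (by decide),
    show chevF4.commTerms 33 36 = [] from rfl]
  simp [CharTwo.neg_eq, CharTwo.two_eq_zero, mul_assoc, xG_zero]

theorem r37_33 : X 37 u * (X 33 t * R) = X 33 t * (X 37 u * R) := by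
  rw [swap (r := 33) (s := 37) (by decide) (by decide) (by decide) (by decide),
    show chevF4.commTerms 33 37 = [(41, 2, 1, 1)] from rfl]
  simp [CharTwo.neg_eq, CharTwo.two_eq_zero, mul_assoc, xG_zero]

theorem r38_33 : X 38 u * (X 33 t * R) = X 33 t * (X 38 u * R) := by
  rw [swap (r := 33) (s := 38) (by decide) (by decide) (by decide) (by decide),
    show chevF4.commTerms 33 38 = [(42, 2, 1, 1)] from rfl]
  simp [CharTwo.neg_eq, CharTwo.two_eq_zero, mul_assoc, xG_zero]

theorem r39_33 : X 39 u * (X 33 t * R) = X 33 t * (X 39 u * R) := by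
  rw [swap (r := 33) (s := 39) (by decide) (by decide) (by decide) (by decide),
    show chevF4.commTerms 33 39 = [(43, 2, 1, 1)] from rfl]
  simp [CharTwo.neg_eq, CharTwo.two_eq_zero, mul_assoc, xG_zero]

theorem r40_33 : X 40 u * (X 33 t * R) = X 33 t * (X 40 u * (X 44 (t * u) * R)) := by
  rw [swap (r := 33) (s := 40) (by decide) (by decide) (by decide) (by decide),
    show chevF4.commTerms 33 40 = [(44, 1, 1, 1)] from rfl]
  simp [CharTwo.neg_eq, CharTwo.two_eq_zero, mul_assoc, xG_zero]

theorem r41_33 : X 41 u * (X 33 t * R) = X 33 t * (X 41 u * R) := by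
  rw [swap (r := 33) (s := 41) (by decide) (by decide) (by decide) (by decide),
    show chevF4.commTerms 33 41 = [] from rfl]
  simp [CharTwo.neg_eq, CharTwo.two_eq_zero, mul_assoc, xG_zero]

theorem r42_33 : X 42 u * (X 33 t * R) = X 33 t * (X 42 u * R) := by
  rw [swap (r := 33) (s := 42) (by decide) (by decide) (by decide) (by decide),
    show chevF4.commTerms 33 42 = [] from rfl]
  simp [CharTwo.neg_eq, CharTwo.two_eq_zero, mul_assoc, xG_zero]

theorem r43_33 : X 43 u * (X 33 t * R) = X 33 t * (X 43 u * R) := by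
  rw [swap (r := 33) (s := 43) (by decide) (by decide) (by decide) (by decide),
    show chevF4.commTerms 33 43 = [] from rfl]
  simp [CharTwo.neg_eq, CharTwo.two_eq_zero, mul_assoc, xG_zero]

theorem r44_33 : X 44 u * (X 33 t * R) = X 33 t * (X 44 u * R) := by
  rw [swap (r := 33) (s := 44) (by decide) (by decide) (by decide) (by decide),
    show chevF4.commTerms 33 44 = [] from rfl]
  simp [CharTwo.neg_eq, CharTwo.two_eq_zero, mul_assoc, xG_zero]

theorem r45_33 : X 45 u * (X 33 t * R) = X 33 t * (X 45 u * R) := by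
  rw [swap (r := 33) (s := 45) (by decide) (by decide) (by decide) (by decide),
    show chevF4.commTerms 33 45 = [] from rfl]
  simp [CharTwo.neg_eq, CharTwo.two_eq_zero, mul_assoc, xG_zero]

theorem r46_33 : X 46 u * (X 33 t * R) = X 33 t * (X 46 u * R) := by
  rw [swap (r := 33) (s := 46) (by decide) (by decide) (by decide) (by decide),
    show chevF4.commTerms 33 46 = [] from rfl]
  simp [CharTwo.neg_eq, CharTwo.two_eq_zero, mul_assoc, xG_zero]

theorem r47_33 : X 47 u * (X 33 t * R) = X 33 t * (X 47 u * R) := by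
  rw [swap (r := 33) (s := 47) (by decide) (by decide) (by decide) (by decide),
    show chevF4.commTerms 33 47 = [] from rfl]
  simp [CharTwo.neg_eq, CharTwo.two_eq_zero, mul_assoc, xG_zero]

theorem r35_34 : X 35 u * (X 34 t * R) = X 34 t * (X 35 u * R) := by
  rw [swap (r := 34) (s := 35) (by decide) (by decide) (by decide) (by decide),
    show chevF4.commTerms 34 35 = [(41, -2, 1, 1)] from rfl]
  simp [CharTwo.neg_eq, CharTwo.two_eq_zero, mul_assoc, xG_zero]

theorem r36_34 : X 36 u * (X 34 t * R) = X 34 t * (X 36 u * R) := by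
  rw [swap (r := 34) (s := 36) (by decide) (by decide) (by decide) (by decide),
    show chevF4.commTerms 34 36 = [(42, -2, 1, 1)] from rfl]
  simp [CharTwo.neg_eq, CharTwo.two_eq_zero, mul_assoc, xG_zero]

theorem r37_34 : X 37 u * (X 34 t * R) = X 34 t * (X 37 u * R) := by
  rw [swap (r := 34) (s := 37) (by decide) (by decide) (by decide) (by decide),
    show chevF4.commTerms 34 37 = [] from rfl]
  simp [CharTwo.neg_eq, CharTwo.two_eq_zero, mul_assoc, xG_zero]

theorem r38_34 : X 38 u * (X 34 t * R) = X 34 t * (X 38 u * R) := by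
  rw [swap (r := 34) (s := 38) (by decide) (by decide) (by decide) (by decide),
    show chevF4.commTerms 34 38 = [] from rfl]
  simp [CharTwo.neg_eq, CharTwo.two_eq_zero, mul_assoc, xG_zero]

theorem r39_34 : X 39 u * (X 34 t * R) = X 34 t * (X 39 u * (X 44 (t * u) * R)) := by
  rw [swap (r := 34) (s := 39) (by decide) (by decide) (by decide) (by decide),
    show chevF4.commTerms 34 39 = [(44, 1, 1, 1)] from rfl]
  simp [CharTwo.neg_eq, CharTwo.two_eq_zero, mul_assoc, xG_zero]

theorem r40_34 : X 40 u * (X 34 t * R) = X 34 t * (X 40 u * R) := by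
  rw [swap (r := 34) (s := 40) (by decide) (by decide) (by decide) (by decide),
    show chevF4.commTerms 34 40 = [(45, 2, 1, 1)] from rfl]
  simp [CharTwo.neg_eq, CharTwo.two_eq_zero, mul_assoc, xG_zero]

theorem r41_34 : X 41 u * (X 34 t * R) = X 34 t * (X 41 u * R) := by
  rw [swap (r := 34) (s := 41) (by decide) (by decide) (by decide) (by decide),
    show chevF4.commTerms 34 41 = [] from rfl]
  simp [CharTwo.neg_eq, CharTwo.two_eq_zero, mul_assoc, xG_zero]

theorem r42_34 : X 42 u * (X 34 t * R) = X 34 t * (X 42 u * R) := by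
  rw [swap (r := 34) (s := 42) (by decide) (by decide) (by decide) (by decide),
    show chevF4.commTerms 34 42 = [] from rfl]
  simp [CharTwo.neg_eq, CharTwo.two_eq_zero, mul_assoc, xG_zero]

theorem r43_34 : X 43 u * (X 34 t * R) = X 34 t * (X 43 u * R) := by
  rw [swap (r := 34) (s := 43) (by decide) (by decide) (by decide) (by decide),
    show chevF4.commTerms 34 43 = [] from rfl]
  simp [CharTwo.neg_eq, CharTwo.two_eq_zero, mul_assoc, xG_zero]

theorem r44_34 : X 44 u * (X 34 t * R) = X 34 t * (X 44 u * R) := by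
  rw [swap (r := 34) (s := 44) (by decide) (by decide) (by decide) (by decide),
    show chevF4.commTerms 34 44 = [] from rfl]
  simp [CharTwo.neg_eq, CharTwo.two_eq_zero, mul_assoc, xG_zero]

theorem r45_34 : X 45 u * (X 34 t * R) = X 34 t * (X 45 u * R) := by
  rw [swap (r := 34) (s := 45) (by decide) (by decide) (by decide) (by decide),
    show chevF4.commTerms 34 45 = [] from rfl]
  simp [CharTwo.neg_eq, CharTwo.two_eq_zero, mul_assoc, xG_zero]

theorem r46_34 : X 46 u * (X 34 t * R) = X 34 t * (X 46 u * R) := by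
  rw [swap (r := 34) (s := 46) (by decide) (by decide) (by decide) (by decide),
    show chevF4.commTerms 34 46 = [] from rfl]
  simp [CharTwo.neg_eq, CharTwo.two_eq_zero, mul_assoc, xG_zero]

theorem r47_34 : X 47 u * (X 34 t * R) = X 34 t * (X 47 u * R) := by
  rw [swap (r := 34) (s := 47) (by decide) (by decide) (by decide) (by decide),
    show chevF4.commTerms 34 47 = [] from rfl]
  simp [CharTwo.neg_eq, CharTwo.two_eq_zero, mul_assoc, xG_zero]

theorem r36_35 : X 36 u * (X 35 t * R) = X 35 t * (X 36 u * R) := by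
  rw [swap (r := 35) (s := 36) (by decide) (by decide) (by decide) (by decide),
    show chevF4.commTerms 35 36 = [(43, -2, 1, 1)] from rfl]
  simp [CharTwo.neg_eq, CharTwo.two_eq_zero, mul_assoc, xG_zero]

theorem r37_35 : X 37 u * (X 35 t * R) = X 35 t * (X 37 u * R) := by
  rw [swap (r := 35) (s := 37) (by decide) (by decide) (by decide) (by decide),
    show chevF4.commTerms 35 37 = [] from rfl]
  simp [CharTwo.neg_eq, CharTwo.two_eq_zero, mul_assoc, xG_zero]

theorem r38_35 : X 38 u * (X 35 t * R) = X 35 t * (X 38 u * (X 44 (t * u) * R)) := by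
  rw [swap (r := 35) (s := 38) (by decide) (by decide) (by decide) (by decide),
    show chevF4.commTerms 35 38 = [(44, -1, 1, 1)] from rfl]
  simp [CharTwo.neg_eq, CharTwo.two_eq_zero, mul_assoc, xG_zero]

theorem r39_35 : X 39 u * (X 35 t * R) = X 35 t * (X 39 u * R) := by
  rw [swap (r := 35) (s := 39) (by decide) (by decide) (by decide) (by decide),
    show chevF4.commTerms 35 39 = [] from rfl]
  simp [CharTwo.neg_eq, CharTwo.two_eq_zero, mul_assoc, xG_zero]

theorem r40_35 : X 40 u * (X 35 t * R) = X 35 t * (X 40 u * R) := by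
  rw [swap (r := 35) (s := 40) (by decide) (by decide) (by decide) (by decide),
    show chevF4.commTerms 35 40 = [(46, 2, 1, 1)] from rfl]
  simp [CharTwo.neg_eq, CharTwo.two_eq_zero, mul_assoc, xG_zero]

theorem r41_35 : X 41 u * (X 35 t * R) = X 35 t * (X 41 u * R) := by
  rw [swap (r := 35) (s := 41) (by decide) (by decide) (by decide) (by decide),
    show chevF4.commTerms 35 41 = [] from rfl]
  simp [CharTwo.neg_eq, CharTwo.two_eq_zero, mul_assoc, xG_zero]

theorem r42_35 : X 42 u * (X 35 t * R) = X 35 t * (X 42 u * R) := by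
  rw [swap (r := 35) (s := 42) (by decide) (by decide) (by decide) (by decide),
    show chevF4.commTerms 35 42 = [] from rfl]
  simp [CharTwo.neg_eq, CharTwo.two_eq_zero, mul_assoc, xG_zero]

theorem r43_35 : X 43 u * (X 35 t * R) = X 35 t * (X 43 u * R) := by
  rw [swap (r := 35) (s := 43) (by decide) (by decide) (by decide) (by decide),
    show chevF4.commTerms 35 43 = [] from rfl]
  simp [CharTwo.neg_eq, CharTwo.two_eq_zero, mul_assoc, xG_zero]

theorem r44_35 : X 44 u * (X 35 t * R) = X 35 t * (X 44 u * R) := by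
  rw [swap (r := 35) (s := 44) (by decide) (by decide) (by decide) (by decide),
    show chevF4.commTerms 35 44 = [] from rfl]
  simp [CharTwo.neg_eq, CharTwo.two_eq_zero, mul_assoc, xG_zero]

theorem r45_35 : X 45 u * (X 35 t * R) = X 35 t * (X 45 u * R) := by
  rw [swap (r := 35) (s := 45) (by decide) (by decide) (by decide) (by decide),
    show chevF4.commTerms 35 45 = [] from rfl]
  simp [CharTwo.neg_eq, CharTwo.two_eq_zero, mul_assoc, xG_zero]

theorem r46_35 : X 46 u * (X 35 t * R) = X 35 t * (X 46 u * R) := by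
  rw [swap (r := 35) (s := 46) (by decide) (by decide) (by decide) (by decide),
    show chevF4.commTerms 35 46 = [] from rfl]
  simp [CharTwo.neg_eq, CharTwo.two_eq_zero, mul_assoc, xG_zero]

theorem r47_35 : X 47 u * (X 35 t * R) = X 35 t * (X 47 u * R) := by
  rw [swap (r := 35) (s := 47) (by decide) (by decide) (by decide) (by decide),
    show chevF4.commTerms 35 47 = [] from rfl]
  simp [CharTwo.neg_eq, CharTwo.two_eq_zero, mul_assoc, xG_zero]

theorem r37_36 : X 37 u * (X 36 t * R) = X 36 t * (X 37 u * (X 44 (t * u) * R)) := by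
  rw [swap (r := 36) (s := 37) (by decide) (by decide) (by decide) (by decide),
    show chevF4.commTerms 36 37 = [(44, 1, 1, 1)] from rfl]
  simp [CharTwo.neg_eq, CharTwo.two_eq_zero, mul_assoc, xG_zero]

theorem r38_36 : X 38 u * (X 36 t * R) = X 36 t * (X 38 u * R) := by
  rw [swap (r := 36) (s := 38) (by decide) (by decide) (by decide) (by decide),
    show chevF4.commTerms 36 38 = [] from rfl]
  simp [CharTwo.neg_eq, CharTwo.two_eq_zero, mul_assoc, xG_zero]

theorem r39_36 : X 39 u * (X 36 t * R) = X 36 t * (X 39 u * R) := by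
  rw [swap (r := 36) (s := 39) (by decide) (by decide) (by decide) (by decide),
    show chevF4.commTerms 36 39 = [] from rfl]
  simp [CharTwo.neg_eq, CharTwo.two_eq_zero, mul_assoc, xG_zero]

theorem r40_36 : X 40 u * (X 36 t * R) = X 36 t * (X 40 u * R) := by
  rw [swap (r := 36) (s := 40) (by decide) (by decide) (by decide) (by decide),
    show chevF4.commTerms 36 40 = [(47, 2, 1, 1)] from rfl]
  simp [CharTwo.neg_eq, CharTwo.two_eq_zero, mul_assoc, xG_zero]

theorem r41_36 : X 41 u * (X 36 t * R) = X 36 t * (X 41 u * R) := by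
  rw [swap (r := 36) (s := 41) (by decide) (by decide) (by decide) (by decide),
    show chevF4.commTerms 36 41 = [] from rfl]
  simp [CharTwo.neg_eq, CharTwo.two_eq_zero, mul_assoc, xG_zero]

theorem r42_36 : X 42 u * (X 36 t * R) = X 36 t * (X 42 u * R) := by
  rw [swap (r := 36) (s := 42) (by decide) (by decide) (by decide) (by decide),
    show chevF4.commTerms 36 42 = [] from rfl]
  simp [CharTwo.neg_eq, CharTwo.two_eq_zero, mul_assoc, xG_zero]

theorem r43_36 : X 43 u * (X 36 t * R) = X 36 t * (X 43 u * R) := by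
  rw [swap (r := 36) (s := 43) (by decide) (by decide) (by decide) (by decide),
    show chevF4.commTerms 36 43 = [] from rfl]
  simp [CharTwo.neg_eq, CharTwo.two_eq_zero, mul_assoc, xG_zero]

theorem r44_36 : X 44 u * (X 36 t * R) = X 36 t * (X 44 u * R) := by
  rw [swap (r := 36) (s := 44) (by decide) (by decide) (by decide) (by decide),
    show chevF4.commTerms 36 44 = [] from rfl]
  simp [CharTwo.neg_eq, CharTwo.two_eq_zero, mul_assoc, xG_zero]

theorem r45_36 : X 45 u * (X 36 t * R) = X 36 t * (X 45 u * R) := by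
  rw [swap (r := 36) (s := 45) (by decide) (by decide) (by decide) (by decide),
    show chevF4.commTerms 36 45 = [] from rfl]
  simp [CharTwo.neg_eq, CharTwo.two_eq_zero, mul_assoc, xG_zero]

theorem r46_36 : X 46 u * (X 36 t * R) = X 36 t * (X 46 u * R) := by
  rw [swap (r := 36) (s := 46) (by decide) (by decide) (by decide) (by decide),
    show chevF4.commTerms 36 46 = [] from rfl]
  simp [CharTwo.neg_eq, CharTwo.two_eq_zero, mul_assoc, xG_zero]

theorem r47_36 : X 47 u * (X 36 t * R) = X 36 t * (X 47 u * R) := by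
  rw [swap (r := 36) (s := 47) (by decide) (by decide) (by decide) (by decide),
    show chevF4.commTerms 36 47 = [] from rfl]
  simp [CharTwo.neg_eq, CharTwo.two_eq_zero, mul_assoc, xG_zero]

theorem r38_37 : X 38 u * (X 37 t * R) = X 37 t * (X 38 u * R) := by
  rw [swap (r := 37) (s := 38) (by decide) (by decide) (by decide) (by decide),
    show chevF4.commTerms 37 38 = [(45, -2, 1, 1)] from rfl]
  simp [CharTwo.neg_eq, CharTwo.two_eq_zero, mul_assoc, xG_zero]

theorem r39_37 : X 39 u * (X 37 t * R) = X 37 t * (X 39 u * R) := by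
  rw [swap (r := 37) (s := 39) (by decide) (by decide) (by decide) (by decide),
    show chevF4.commTerms 37 39 = [(46, -2, 1, 1)] from rfl]
  simp [CharTwo.neg_eq, CharTwo.two_eq_zero, mul_assoc, xG_zero]

theorem r40_37 : X 40 u * (X 37 t * R) = X 37 t * (X 40 u * R) := by
  rw [swap (r := 37) (s := 40) (by decide) (by decide) (by decide) (by decide),
    show chevF4.commTerms 37 40 = [] from rfl]
  simp [CharTwo.neg_eq, CharTwo.two_eq_zero, mul_assoc, xG_zero]

theorem r41_37 : X 41 u * (X 37 t * R) = X 37 t * (X 41 u * R) := by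
  rw [swap (r := 37) (s := 41) (by decide) (by decide) (by decide) (by decide),
    show chevF4.commTerms 37 41 = [] from rfl]
  simp [CharTwo.neg_eq, CharTwo.two_eq_zero, mul_assoc, xG_zero]

theorem r42_37 : X 42 u * (X 37 t * R) = X 37 t * (X 42 u * R) := by
  rw [swap (r := 37) (s := 42) (by decide) (by decide) (by decide) (by decide),
    show chevF4.commTerms 37 42 = [] from rfl]
  simp [CharTwo.neg_eq, CharTwo.two_eq_zero, mul_assoc, xG_zero]

theorem r43_37 : X 43 u * (X 37 t * R) = X 37 t * (X 43 u * R) := by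
  rw [swap (r := 37) (s := 43) (by decide) (by decide) (by decide) (by decide),
    show chevF4.commTerms 37 43 = [] from rfl]
  simp [CharTwo.neg_eq, CharTwo.two_eq_zero, mul_assoc, xG_zero]

theorem r44_37 : X 44 u * (X 37 t * R) = X 37 t * (X 44 u * R) := by
  rw [swap (r := 37) (s := 44) (by decide) (by decide) (by decide) (by decide),
    show chevF4.commTerms 37 44 = [] from rfl]
  simp [CharTwo.neg_eq, CharTwo.two_eq_zero, mul_assoc, xG_zero]

theorem r45_37 : X 45 u * (X 37 t * R) = X 37 t * (X 45 u * R) := by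
  rw [swap (r := 37) (s := 45) (by decide) (by decide) (by decide) (by decide),
    show chevF4.commTerms 37 45 = [] from rfl]
  simp [CharTwo.neg_eq, CharTwo.two_eq_zero, mul_assoc, xG_zero]

theorem r46_37 : X 46 u * (X 37 t * R) = X 37 t * (X 46 u * R) := by
  rw [swap (r := 37) (s := 46) (by decide) (by decide) (by decide) (by decide),
    show chevF4.commTerms 37 46 = [] from rfl]
  simp [CharTwo.neg_eq, CharTwo.two_eq_zero, mul_assoc, xG_zero]

theorem r47_37 : X 47 u * (X 37 t * R) = X 37 t * (X 47 u * R) := by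
  rw [swap (r := 37) (s := 47) (by decide) (by decide) (by decide) (by decide),
    show chevF4.commTerms 37 47 = [] from rfl]
  simp [CharTwo.neg_eq, CharTwo.two_eq_zero, mul_assoc, xG_zero]

theorem r39_38 : X 39 u * (X 38 t * R) = X 38 t * (X 39 u * R) := by
  rw [swap (r := 38) (s := 39) (by decide) (by decide) (by decide) (by decide),
    show chevF4.commTerms 38 39 = [(47, -2, 1, 1)] from rfl]
  simp [CharTwo.neg_eq, CharTwo.two_eq_zero, mul_assoc, xG_zero]

theorem r40_38 : X 40 u * (X 38 t * R) = X 38 t * (X 40 u * R) := by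
  rw [swap (r := 38) (s := 40) (by decide) (by decide) (by decide) (by decide),
    show chevF4.commTerms 38 40 = [] from rfl]
  simp [CharTwo.neg_eq, CharTwo.two_eq_zero, mul_assoc, xG_zero]

theorem r41_38 : X 41 u * (X 38 t * R) = X 38 t * (X 41 u * R) := by
  rw [swap (r := 38) (s := 41) (by decide) (by decide) (by decide) (by decide),
    show chevF4.commTerms 38 41 = [] from rfl]
  simp [CharTwo.neg_eq, CharTwo.two_eq_zero, mul_assoc, xG_zero]

theorem r42_38 : X 42 u * (X 38 t * R) = X 38 t * (X 42 u * R) := by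
  rw [swap (r := 38) (s := 42) (by decide) (by decide) (by decide) (by decide),
    show chevF4.commTerms 38 42 = [] from rfl]
  simp [CharTwo.neg_eq, CharTwo.two_eq_zero, mul_assoc, xG_zero]

theorem r43_38 : X 43 u * (X 38 t * R) = X 38 t * (X 43 u * R) := by
  rw [swap (r := 38) (s := 43) (by decide) (by decide) (by decide) (by decide),
    show chevF4.commTerms 38 43 = [] from rfl]
  simp [CharTwo.neg_eq, CharTwo.two_eq_zero, mul_assoc, xG_zero]

theorem r44_38 : X 44 u * (X 38 t * R) = X 38 t * (X 44 u * R) := by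
  rw [swap (r := 38) (s := 44) (by decide) (by decide) (by decide) (by decide),
    show chevF4.commTerms 38 44 = [] from rfl]
  simp [CharTwo.neg_eq, CharTwo.two_eq_zero, mul_assoc, xG_zero]

theorem r45_38 : X 45 u * (X 38 t * R) = X 38 t * (X 45 u * R) := by
  rw [swap (r := 38) (s := 45) (by decide) (by decide) (by decide) (by decide),
    show chevF4.commTerms 38 45 = [] from rfl]
  simp [CharTwo.neg_eq, CharTwo.two_eq_zero, mul_assoc, xG_zero]

theorem r46_38 : X 46 u * (X 38 t * R) = X 38 t * (X 46 u * R) := by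
  rw [swap (r := 38) (s := 46) (by decide) (by decide) (by decide) (by decide),
    show chevF4.commTerms 38 46 = [] from rfl]
  simp [CharTwo.neg_eq, CharTwo.two_eq_zero, mul_assoc, xG_zero]

theorem r47_38 : X 47 u * (X 38 t * R) = X 38 t * (X 47 u * R) := by
  rw [swap (r := 38) (s := 47) (by decide) (by decide) (by decide) (by decide),
    show chevF4.commTerms 38 47 = [] from rfl]
  simp [CharTwo.neg_eq, CharTwo.two_eq_zero, mul_assoc, xG_zero]

theorem r40_39 : X 40 u * (X 39 t * R) = X 39 t * (X 40 u * R) := by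
  rw [swap (r := 39) (s := 40) (by decide) (by decide) (by decide) (by decide),
    show chevF4.commTerms 39 40 = [] from rfl]
  simp [CharTwo.neg_eq, CharTwo.two_eq_zero, mul_assoc, xG_zero]

theorem r41_39 : X 41 u * (X 39 t * R) = X 39 t * (X 41 u * R) := by
  rw [swap (r := 39) (s := 41) (by decide) (by decide) (by decide) (by decide),
    show chevF4.commTerms 39 41 = [] from rfl]
  simp [CharTwo.neg_eq, CharTwo.two_eq_zero, mul_assoc, xG_zero]

theorem r42_39 : X 42 u * (X 39 t * R) = X 39 t * (X 42 u * R) := by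
  rw [swap (r := 39) (s := 42) (by decide) (by decide) (by decide) (by decide),
    show chevF4.commTerms 39 42 = [] from rfl]
  simp [CharTwo.neg_eq, CharTwo.two_eq_zero, mul_assoc, xG_zero]

theorem r43_39 : X 43 u * (X 39 t * R) = X 39 t * (X 43 u * R) := by
  rw [swap (r := 39) (s := 43) (by decide) (by decide) (by decide) (by decide),
    show chevF4.commTerms 39 43 = [] from rfl]
  simp [CharTwo.neg_eq, CharTwo.two_eq_zero, mul_assoc, xG_zero]

theorem r44_39 : X 44 u * (X 39 t * R) = X 39 t * (X 44 u * R) := by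
  rw [swap (r := 39) (s := 44) (by decide) (by decide) (by decide) (by decide),
    show chevF4.commTerms 39 44 = [] from rfl]
  simp [CharTwo.neg_eq, CharTwo.two_eq_zero, mul_assoc, xG_zero]

theorem r45_39 : X 45 u * (X 39 t * R) = X 39 t * (X 45 u * R) := by
  rw [swap (r := 39) (s := 45) (by decide) (by decide) (by decide) (by decide),
    show chevF4.commTerms 39 45 = [] from rfl]
  simp [CharTwo.neg_eq, CharTwo.two_eq_zero, mul_assoc, xG_zero]

theorem r46_39 : X 46 u * (X 39 t * R) = X 39 t * (X 46 u * R) := by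
  rw [swap (r := 39) (s := 46) (by decide) (by decide) (by decide) (by decide),
    show chevF4.commTerms 39 46 = [] from rfl]
  simp [CharTwo.neg_eq, CharTwo.two_eq_zero, mul_assoc, xG_zero]

theorem r47_39 : X 47 u * (X 39 t * R) = X 39 t * (X 47 u * R) := by
  rw [swap (r := 39) (s := 47) (by decide) (by decide) (by decide) (by decide),
    show chevF4.commTerms 39 47 = [] from rfl]
  simp [CharTwo.neg_eq, CharTwo.two_eq_zero, mul_assoc, xG_zero]

theorem r41_40 : X 41 u * (X 40 t * R) = X 40 t * (X 41 u * R) := by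
  rw [swap (r := 40) (s := 41) (by decide) (by decide) (by decide) (by decide),
    show chevF4.commTerms 40 41 = [] from rfl]
  simp [CharTwo.neg_eq, CharTwo.two_eq_zero, mul_assoc, xG_zero]

theorem r42_40 : X 42 u * (X 40 t * R) = X 40 t * (X 42 u * R) := by
  rw [swap (r := 40) (s := 42) (by decide) (by decide) (by decide) (by decide),
    show chevF4.commTerms 40 42 = [] from rfl]
  simp [CharTwo.neg_eq, CharTwo.two_eq_zero, mul_assoc, xG_zero]

theorem r43_40 : X 43 u * (X 40 t * R) = X 40 t * (X 43 u * R) := by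
  rw [swap (r := 40) (s := 43) (by decide) (by decide) (by decide) (by decide),
    show chevF4.commTerms 40 43 = [] from rfl]
  simp [CharTwo.neg_eq, CharTwo.two_eq_zero, mul_assoc, xG_zero]

theorem r44_40 : X 44 u * (X 40 t * R) = X 40 t * (X 44 u * R) := by
  rw [swap (r := 40) (s := 44) (by decide) (by decide) (by decide) (by decide),
    show chevF4.commTerms 40 44 = [] from rfl]
  simp [CharTwo.neg_eq, CharTwo.two_eq_zero, mul_assoc, xG_zero]

theorem r45_40 : X 45 u * (X 40 t * R) = X 40 t * (X 45 u * R) := by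
  rw [swap (r := 40) (s := 45) (by decide) (by decide) (by decide) (by decide),
    show chevF4.commTerms 40 45 = [] from rfl]
  simp [CharTwo.neg_eq, CharTwo.two_eq_zero, mul_assoc, xG_zero]

theorem r46_40 : X 46 u * (X 40 t * R) = X 40 t * (X 46 u * R) := by
  rw [swap (r := 40) (s := 46) (by decide) (by decide) (by decide) (by decide),
    show chevF4.commTerms 40 46 = [] from rfl]
  simp [CharTwo.neg_eq, CharTwo.two_eq_zero, mul_assoc, xG_zero]

theorem r47_40 : X 47 u * (X 40 t * R) = X 40 t * (X 47 u * R) := by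
  rw [swap (r := 40) (s := 47) (by decide) (by decide) (by decide) (by decide),
    show chevF4.commTerms 40 47 = [] from rfl]
  simp [CharTwo.neg_eq, CharTwo.two_eq_zero, mul_assoc, xG_zero]

theorem r42_41 : X 42 u * (X 41 t * R) = X 41 t * (X 42 u * R) := by
  rw [swap (r := 41) (s := 42) (by decide) (by decide) (by decide) (by decide),
    show chevF4.commTerms 41 42 = [] from rfl]
  simp [CharTwo.neg_eq, CharTwo.two_eq_zero, mul_assoc, xG_zero]

theorem r43_41 : X 43 u * (X 41 t * R) = X 41 t * (X 43 u * R) := by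
  rw [swap (r := 41) (s := 43) (by decide) (by decide) (by decide) (by decide),
    show chevF4.commTerms 41 43 = [] from rfl]
  simp [CharTwo.neg_eq, CharTwo.two_eq_zero, mul_assoc, xG_zero]

theorem r44_41 : X 44 u * (X 41 t * R) = X 41 t * (X 44 u * R) := by
  rw [swap (r := 41) (s := 44) (by decide) (by decide) (by decide) (by decide),
    show chevF4.commTerms 41 44 = [] from rfl]
  simp [CharTwo.neg_eq, CharTwo.two_eq_zero, mul_assoc, xG_zero]

theorem r45_41 : X 45 u * (X 41 t * R) = X 41 t * (X 45 u * R) := by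
  rw [swap (r := 41) (s := 45) (by decide) (by decide) (by decide) (by decide),
    show chevF4.commTerms 41 45 = [] from rfl]
  simp [CharTwo.neg_eq, CharTwo.two_eq_zero, mul_assoc, xG_zero]

theorem r46_41 : X 46 u * (X 41 t * R) = X 41 t * (X 46 u * R) := by
  rw [swap (r := 41) (s := 46) (by decide) (by decide) (by decide) (by decide),
    show chevF4.commTerms 41 46 = [] from rfl]
  simp [CharTwo.neg_eq, CharTwo.two_eq_zero, mul_assoc, xG_zero]

theorem r47_41 : X 47 u * (X 41 t * R) = X 41 t * (X 47 u * R) := by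
  rw [swap (r := 41) (s := 47) (by decide) (by decide) (by decide) (by decide),
    show chevF4.commTerms 41 47 = [] from rfl]
  simp [CharTwo.neg_eq, CharTwo.two_eq_zero, mul_assoc, xG_zero]

theorem r43_42 : X 43 u * (X 42 t * R) = X 42 t * (X 43 u * R) := by
  rw [swap (r := 42) (s := 43) (by decide) (by decide) (by decide) (by decide),
    show chevF4.commTerms 42 43 = [] from rfl]
  simp [CharTwo.neg_eq, CharTwo.two_eq_zero, mul_assoc, xG_zero]

theorem r44_42 : X 44 u * (X 42 t * R) = X 42 t * (X 44 u * R) := by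
  rw [swap (r := 42) (s := 44) (by decide) (by decide) (by decide) (by decide),
    show chevF4.commTerms 42 44 = [] from rfl]
  simp [CharTwo.neg_eq, CharTwo.two_eq_zero, mul_assoc, xG_zero]

theorem r45_42 : X 45 u * (X 42 t * R) = X 42 t * (X 45 u * R) := by
  rw [swap (r := 42) (s := 45) (by decide) (by decide) (by decide) (by decide),
    show chevF4.commTerms 42 45 = [] from rfl]
  simp [CharTwo.neg_eq, CharTwo.two_eq_zero, mul_assoc, xG_zero]

theorem r46_42 : X 46 u * (X 42 t * R) = X 42 t * (X 46 u * R) := by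
  rw [swap (r := 42) (s := 46) (by decide) (by decide) (by decide) (by decide),
    show chevF4.commTerms 42 46 = [] from rfl]
  simp [CharTwo.neg_eq, CharTwo.two_eq_zero, mul_assoc, xG_zero]

theorem r47_42 : X 47 u * (X 42 t * R) = X 42 t * (X 47 u * R) := by
  rw [swap (r := 42) (s := 47) (by decide) (by decide) (by decide) (by decide),
    show chevF4.commTerms 42 47 = [] from rfl]
  simp [CharTwo.neg_eq, CharTwo.two_eq_zero, mul_assoc, xG_zero]

theorem r44_43 : X 44 u * (X 43 t * R) = X 43 t * (X 44 u * R) := by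
  rw [swap (r := 43) (s := 44) (by decide) (by decide) (by decide) (by decide),
    show chevF4.commTerms 43 44 = [] from rfl]
  simp [CharTwo.neg_eq, CharTwo.two_eq_zero, mul_assoc, xG_zero]

theorem r45_43 : X 45 u * (X 43 t * R) = X 43 t * (X 45 u * R) := by
  rw [swap (r := 43) (s := 45) (by decide) (by decide) (by decide) (by decide),
    show chevF4.commTerms 43 45 = [] from rfl]
  simp [CharTwo.neg_eq, CharTwo.two_eq_zero, mul_assoc, xG_zero]

theorem r46_43 : X 46 u * (X 43 t * R) = X 43 t * (X 46 u * R) := by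
  rw [swap (r := 43) (s := 46) (by decide) (by decide) (by decide) (by decide),
    show chevF4.commTerms 43 46 = [] from rfl]
  simp [CharTwo.neg_eq, CharTwo.two_eq_zero, mul_assoc, xG_zero]

theorem r47_43 : X 47 u * (X 43 t * R) = X 43 t * (X 47 u * R) := by
  rw [swap (r := 43) (s := 47) (by decide) (by decide) (by decide) (by decide),
    show chevF4.commTerms 43 47 = [] from rfl]
  simp [CharTwo.neg_eq, CharTwo.two_eq_zero, mul_assoc, xG_zero]

theorem r45_44 : X 45 u * (X 44 t * R) = X 44 t * (X 45 u * R) := by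
  rw [swap (r := 44) (s := 45) (by decide) (by decide) (by decide) (by decide),
    show chevF4.commTerms 44 45 = [] from rfl]
  simp [CharTwo.neg_eq, CharTwo.two_eq_zero, mul_assoc, xG_zero]

theorem r46_44 : X 46 u * (X 44 t * R) = X 44 t * (X 46 u * R) := by
  rw [swap (r := 44) (s := 46) (by decide) (by decide) (by decide) (by decide),
    show chevF4.commTerms 44 46 = [] from rfl]
  simp [CharTwo.neg_eq, CharTwo.two_eq_zero, mul_assoc, xG_zero]

theorem r47_44 : X 47 u * (X 44 t * R) = X 44 t * (X 47 u * R) := by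
  rw [swap (r := 44) (s := 47) (by decide) (by decide) (by decide) (by decide),
    show chevF4.commTerms 44 47 = [] from rfl]
  simp [CharTwo.neg_eq, CharTwo.two_eq_zero, mul_assoc, xG_zero]

theorem r46_45 : X 46 u * (X 45 t * R) = X 45 t * (X 46 u * R) := by
  rw [swap (r := 45) (s := 46) (by decide) (by decide) (by decide) (by decide),
    show chevF4.commTerms 45 46 = [] from rfl]
  simp [CharTwo.neg_eq, CharTwo.two_eq_zero, mul_assoc, xG_zero]

theorem r47_45 : X 47 u * (X 45 t * R) = X 45 t * (X 47 u * R) := by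
  rw [swap (r := 45) (s := 47) (by decide) (by decide) (by decide) (by decide),
    show chevF4.commTerms 45 47 = [] from rfl]
  simp [CharTwo.neg_eq, CharTwo.two_eq_zero, mul_assoc, xG_zero]

theorem r47_46 : X 47 u * (X 46 t * R) = X 46 t * (X 47 u * R) := by
  rw [swap (r := 46) (s := 47) (by decide) (by decide) (by decide) (by decide),
    show chevF4.commTerms 46 47 = [] from rfl]
  simp [CharTwo.neg_eq, CharTwo.two_eq_zero, mul_assoc, xG_zero]

/-- Normalisation of products in `U`. -/
macro "f4_norm" : tactic => `(tactic| simp only [mul_assoc, one_mul, merge, r25_24, r26_24, r27_24, r28_24, r29_24, r30_24, r31_24, r32_24, r33_24, r34_24, r35_24, r36_24, r37_24, r38_24, r39_24, r40_24, r41_24, r42_24, r43_24, r44_24, r45_24, r46_24, r47_24, r26_25, r27_25, r28_25, r29_25, r30_25, r31_25, r32_25, r33_25, r34_25, r35_25, r36_25, r37_25, r38_25, r39_25, r40_25, r41_25, r42_25, r43_25, r44_25, r45_25, r46_25, r47_25, r27_26, r28_26, r29_26, r30_26, r31_26, r32_26, r33_26, r34_26, r35_26, r36_26, r37_26, r38_26,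 r39_26, r40_26, r41_26, r42_26, r43_26, r44_26, r45_26, r46_26, r47_26, r28_27, r29_27, r30_27, r31_27, r32_27, r33_27, r34_27, r35_27, r36_27, r37_27, r38_27, r39_27, r40_27, r41_27, r42_27, r43_27, r44_27, r45_27, r46_27, r47_27, r29_28, r30_28, r31_28, r32_28, r33_28, r34_28, r35_28, r36_28, r37_28, r38_28, r39_28, r40_28, r41_28, r42_28, r43_28, r44_28, r45_28, r46_28, r47_28, r30_29, r31_29, r32_29, r33_29, r34_29, r35_29, r36_29, r37_29, r38_29, r39_29, r40_29, r41_29, r42_29, r43_29, r44_29, r45_29, r46_29, r47_29, r31_30, r32_30, r33_30, r34_30, r35_30, r36_30, r37_30, r38_30, r39_30, r40_30, r41_30, r42_30, r43_30, r44_30, r45_30, r46_30, r47_30, r32_31, r33_31, r34_31, r35_31, r36_31, r37_31, r38_31, r39_31, r40_31, r41_31, r42_31, r43_31, r44_31, r45_31, r46_31, r47_31, r33_32, r34_32, r35_32, r36_32, r37_32, r38_32, r39_32, r40_32, r41_32, r42_32, r43_32, r44_32, r45_32, r46_32, r47_32, r34_33, r35_33, r36_33, r37_33, r38_33, r39_33, r40_33, r41_33, r42_33, r43_33, r44_33, r45_33, r46_33, r47_33, r35_34,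 r36_34, r37_34, r38_34, r39_34, r40_34, r41_34, r42_34, r43_34, r44_34, r45_34, r46_34, r47_34, r36_35, r37_35, r38_35, r39_35, r40_35, r41_35, r42_35, r43_35, r44_35, r45_35, r46_35, r47_35, r37_36, r38_36, r39_36, r40_36, r41_36, r42_36, r43_36, r44_36, r45_36, r46_36, r47_36, r38_37, r39_37, r40_37, r41_37, r42_37, r43_37, r44_37, r45_37, r46_37, r47_37, r39_38, r40_38, r41_38, r42_38, r43_38, r44_38, r45_38, r46_38, r47_38, r40_39, r41_39, r42_39, r43_39, r44_39, r45_39, r46_39, r47_39, r41_40, r42_40, r43_40, r44_40, r45_40, r46_40, r47_40, r42_41, r43_41, r44_41, r45_41, r46_41, r47_41, r43_42, r44_42, r45_42, r46_42, r47_42, r44_43, r45_43, r46_43, r47_43, r45_44, r46_44, r47_44, r46_45, r47_45, r47_46])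
/-- Normalisation of products in `U` in a hypothesis. -/
macro "f4_norm_at" h:ident : tactic => `(tactic| simp only [mul_assoc, one_mul, merge, r25_24, r26_24, r27_24, r28_24, r29_24, r30_24, r31_24, r32_24, r33_24, r34_24, r35_24, r36_24, r37_24, r38_24, r39_24, r40_24, r41_24, r42_24, r43_24, r44_24, r45_24, r46_24, r47_24, r26_25, r27_25, r28_25, r29_25, r30_25, r31_25, r32_25, r33_25, r34_25, r35_25, r36_25, r37_25, r38_25, r39_25, r40_25, r41_25, r42_25, r43_25, r44_25, r45_25, r46_25, r47_25, r27_26, r28_26, r29_26, r30_26, r31_26, r32_26, r33_26, r34_26, r35_26, r36_26, r37_26, r38_26, r39_26, r40_26, r41_26, r42_26, r43_26, r44_26, r45_26, r46_26, r47_26, r28_27, r29_27, r30_27, r31_27, r32_27, r33_27, r34_27, r35_27, r36_27, r37_27, r38_27, r39_27, r40_27, r41_27, r42_27, r43_27, r44_27, r45_27, r46_27, r47_27, r29_28, r30_28, r31_28, r32_28, r33_28, r34_28, r35_28, r36_28, r37_28, r38_28, r39_28, r40_28, r41_28, r42_28, r43_28, r44_28, r45_28, r46_28, r47_28, r30_29, r31_29, r32_29, r33_29, r34_29, r35_29,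 r36_29, r37_29, r38_29, r39_29, r40_29, r41_29, r42_29, r43_29, r44_29, r45_29, r46_29, r47_29, r31_30, r32_30, r33_30, r34_30, r35_30, r36_30, r37_30, r38_30, r39_30, r40_30, r41_30, r42_30, r43_30, r44_30, r45_30, r46_30, r47_30, r32_31, r33_31, r34_31, r35_31, r36_31, r37_31, r38_31, r39_31, r40_31, r41_31, r42_31, r43_31, r44_31, r45_31, r46_31, r47_31, r33_32, r34_32, r35_32, r36_32, r37_32, r38_32, r39_32, r40_32, r41_32, r42_32, r43_32, r44_32, r45_32, r46_32, r47_32, r34_33, r35_33, r36_33, r37_33, r38_33, r39_33, r40_33, r41_33, r42_33, r43_33, r44_33, r45_33, r46_33, r47_33, r35_34, r36_34, r37_34, r38_34, r39_34, r40_34, r41_34, r42_34, r43_34, r44_34, r45_34, r46_34, r47_34, r36_35, r37_35, r38_35, r39_35, r40_35, r41_35, r42_35, r43_35, r44_35, r45_35, r46_35, r47_35, r37_36, r38_36, r39_36, r40_36, r41_36, r42_36, r43_36, r44_36, r45_36, r46_36, r47_36, r38_37, r39_37, r40_37, r41_37, r42_37, r43_37, r44_37, r45_37, r46_37, r47_37, r39_38, r40_38, r41_38, r42_38, r43_38, r44_38, r45_38, r46_38, r47_38,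 r40_39, r41_39, r42_39, r43_39, r44_39, r45_39, r46_39, r47_39, r41_40, r42_40, r43_40, r44_40, r45_40, r46_40, r47_40, r42_41, r43_41, r44_41, r45_41, r46_41, r47_41, r43_42, r44_42, r45_42, r46_42, r47_42, r44_43, r45_43, r46_43, r47_43, r45_44, r46_44, r47_44, r46_45, r47_45, r47_46] at $h:ident)

end CfsgLib.ReeFourInvolutions
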